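import Cfsg.Agent.Chars.Sums
import Cfsg.Agent.Chars.Count
import Cfsg.Agent.Chars.Construct
import Cfsg.Agent.Chars.Values
import Mathlib.GroupTheory.FixedPointFree

/-!
Character-theoretic facts about an involution whose centraliser has order four.
-/

set_option autoImplicit false
set_option linter.unusedSectionVars false

namespace Cfsg.FoursCent

open Subgroup Cfsg.Lib.Chars
open scoped ComplexConjugate

universe u

variable {G : Type u} [Group G] [Finite G]

/-- The sum of an irreducible character over a subgroup is a natural multiple of the order. -/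
theorem sum_subgroup_dvd (χ : Cfsg.IrrCharacter G) (U : Subgroup G) [Fintype U] :
    ∃ m : ℕ, ∑ u : U, (χ : G → ℂ) u = (Nat.card U : ℂ) * m := by
  obtain ⟨m, hm⟩ := IsCharacter.exists_mult (IsCharacter.restrict (isCharacter_of_irr χ.2) U)
    (isIrrCharacter_one (G := U))
  refine ⟨m, ?_⟩
  rw [classInner_def, inv_mul_eq_iff_eq_mul₀ (Nat.cast_ne_zero.2 Nat.card_pos.ne')] at hm
  rw [← hm]
  exact Finset.sum_congr rfl fun u _ => by simp

/-- A character value at an involution is an integer. -/
theorem exists_int (χ : Cfsg.IrrCharacter G) {x : G} (hx : orderOf x = 2) :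
    ∃ a : ℤ, (χ : G → ℂ) x = (a : ℂ) := by
  classical
  letI := Fintype.ofFinite (zpowers x)
  have hcard : Nat.card (zpowers x) = 2 := by rw [Nat.card_zpowers, hx]
  have hx1 : x ≠ 1 := fun h => by rw [h, orderOf_one] at hx; omega
  have huniv : (Finset.univ : Finset (zpowers x)) = {1, ⟨x, mem_zpowers x⟩} := by
    symm
    apply Finset.eq_univ_of_card
    rw [Finset.card_pair, ← Nat.card_eq_fintype_card, hcard]
    exact fun h => hx1 (congrArg Subtype.val h).symm
  obtain ⟨m, hm⟩ := sum_subgroup_dvd χ (zpowers x)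
  rw [huniv, Finset.sum_pair (fun h => hx1 (congrArg Subtype.val h).symm), hcard,
    OneMemClass.coe_one, irr_apply_one_eq_deg] at hm
  refine ⟨2 * (m : ℤ) - deg (χ : G → ℂ), ?_⟩
  push_cast at hm ⊢
  linear_combination hm

open scoped Classical in
/-- The squares of the integral column of `x`. -/
theorem column_sq {x : G} (hx : orderOf x = 2) (hC : Nat.card (centralizer ({x} : Set G)) = 4)
    (a : Cfsg.IrrCharacter G → ℤ) (ha : ∀ χ : Cfsg.IrrCharacter G, (χ : G → ℂ) x = (a χ : ℂ)) :
    ∑ χ : Cfsg.IrrCharacter G, a χ ^ 2 = 4 := by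
  have h := second_orthogonality x x
  rw [if_pos (IsConj.refl x), hC] at h
  simp only [ha, map_intCast] at h
  apply Int.cast_injective (α := ℂ)
  push_cast
  rw [← h.trans (by norm_num : ((4 : ℕ) : ℂ) = 4)]
  exact Finset.sum_congr rfl fun χ _ => sq _

/-- The class of an involution with centraliser of order four. -/
theorem card_class {x : G} (hC : Nat.card (centralizer ({x} : Set G)) = 4) :
    4 * Nat.card {y : G // IsConj x y} = Nat.card G := by
  rw [mul_comm, ← hC]
  exact card_isConj_mul x

/-- Counting products of two conjugates of `x` by the characters. -/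
theorem pairs_formula {x : G} (hC : Nat.card (centralizer ({x} : Set G)) = 4) (g : G) :
    (16 : ℂ) * (Nat.card {p : G × G // IsConj x p.1 ∧ IsConj x p.2 ∧ p.1 * p.2 = g} : ℂ) =
      (Nat.card G : ℂ) * ∑ χ : Cfsg.IrrCharacter G,
        (χ : G → ℂ) x * (χ : G → ℂ) x * conj ((χ : G → ℂ) g) / (χ : G → ℂ) 1 := by
  letI := Fintype.ofFinite G
  rw [class_mult_formula]
  have h : (4 : ℂ) * (Nat.card {y : G // IsConj x y} : ℂ) = (Nat.card G : ℂ) := by
    exact_mod_cast card_class hC
  have hG : (Nat.card G : ℂ) ≠ 0 := by exact_mod_cast Nat.card_pos.ne'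
  rw [← h] at hG ⊢
  field_simp
  ring

/-- An element of the centraliser of order four cannot be fixed by an odd subgroup: the involution
inverts every odd order subgroup it normalises. -/
theorem inverts {x : G} (hx : x * x = 1) (hC : Nat.card (centralizer ({x} : Set G)) = 4)
    (O : Subgroup G) (hO : Odd (Nat.card O)) (hinv : ∀ o ∈ O, x * o * x⁻¹ ∈ O) :
    ∀ o ∈ O, x * o * x⁻¹ = o⁻¹ := by
  let φ : O →* O :=
    { toFun := fun o => ⟨x * o * x⁻¹, hinv o o.2⟩
      map_one' := Subtype.ext (by simp)
      map_mul' := fun a b => Subtype.ext (by simp [mul_assoc]) }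
  have hfix : MonoidHom.FixedPointFree φ := by
    intro g hg
    have hg' : x * g * x⁻¹ = g := congrArg Subtype.val hg
    have hmem : (g : G) ∈ centralizer ({x} : Set G) :=
      mem_centralizer_singleton_iff.2 (mul_inv_eq_iff_eq_mul.1 hg').symm
    have h1 := Nat.dvd_gcd (orderOf_dvd_natCard g) (show orderOf g ∣ 4 by
      rw [← hC, ← orderOf_coe]; exact orderOf_dvd_natCard _ hmem)
    have hco : Nat.gcd (Nat.card O) 4 = 1 := by
      have h4 : Nat.Coprime (Nat.card O) (2 ^ 2) :=
        Nat.Coprime.pow_right 2 (Nat.coprime_two_right.2 hO)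
      simpa using h4
    rw [hco, Nat.dvd_one, orderOf_eq_one_iff] at h1
    exact h1
  have hinvol : Function.Involutive φ := fun o => Subtype.ext (by
    have hxi : x⁻¹ = x := inv_eq_of_mul_eq_one_right hx
    show x * (x * o * x⁻¹) * x⁻¹ = o
    rw [hxi, ← mul_assoc, ← mul_assoc, hx, one_mul, mul_assoc, hx, mul_one])
  intro o ho
  exact congrArg Subtype.val (congrFun (hfix.coe_eq_inv_of_involutive hinvol) ⟨o, ho⟩)

open scoped Classical in
/-- The norm of the column sum over a coset `zO`. -/
theorem norm_sum {z : G} (O : Subgroup G) [Fintype O]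
    (hstab : ∀ (p q : O) (y : G), y * (z * p) * y⁻¹ = z * q → y ∈ centralizer ({z} : Set G))
    (hnorm : ∀ y ∈ centralizer ({z} : Set G), ∀ p ∈ O, y * p * y⁻¹ ∈ O) :
    ∑ χ : Cfsg.IrrCharacter G, ‖∑ p : O, (χ : G → ℂ) (z * p)‖ ^ 2 =
      (Nat.card O : ℝ) * (Nat.card (centralizer ({z} : Set G)) : ℝ) := by
  letI := Fintype.ofFinite G
  have key : ∀ p : O, ∑ q : O, ∑ χ : Cfsg.IrrCharacter G,
      (χ : G → ℂ) (z * p) * conj ((χ : G → ℂ) (z * q)) =
      (Nat.card (centralizer ({z} : Set G)) : ℂ) := by
    intro p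
    rw [Finset.sum_congr rfl fun (q : O) _ => second_orthogonality (z * (p : G)) (z * (q : G))]
    -- the elements of the centraliser, sorted by the image of `p`
    have hcount : ∀ q : O, (if IsConj (z * (p : G)) (z * q) then
        (Nat.card (centralizer ({z * (p : G)} : Set G)) : ℂ) else 0) =
        ((Finset.univ.filter fun y : G => y * (z * p) * y⁻¹ = z * q).card : ℂ) := by
      intro q
      split_ifs with hc
      · obtain ⟨y₀, hy₀⟩ := isConj_iff.1 hc
        rw [← Fintype.card_subtype, ← Nat.card_eq_fintype_card]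
        congr 1
        refine Nat.card_congr ((Equiv.mulLeft y₀).subtypeEquiv fun c => ?_)
        show c ∈ centralizer ({z * (p : G)} : Set G) ↔ y₀ * c * (z * p) * (y₀ * c)⁻¹ = z * q
        rw [mem_centralizer_singleton_iff, ← hy₀,
          show y₀ * c * (z * p) * (y₀ * c)⁻¹ = y₀ * (c * (z * p) * c⁻¹) * y₀⁻¹ by group,
          mul_left_inj, mul_right_inj, mul_inv_eq_iff_eq_mul]
      · rw [eq_comm, Nat.cast_eq_zero, Finset.card_eq_zero, Finset.filter_eq_empty_iff]
        intro y _ hy
        exact hc (isConj_iff.2 ⟨y, hy⟩)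
    rw [Finset.sum_congr rfl fun (q : O) _ => (by convert hcount q)]
    rw [← Nat.cast_sum]
    congr 1
    rw [← Finset.card_biUnion (fun q _ q' _ hne => Finset.disjoint_left.2 fun y hy hy' => hne (by
      simp only [Finset.mem_filter] at hy hy'
      exact Subtype.ext (mul_left_cancel (hy.2.symm.trans hy'.2)))),
      Nat.card_eq_fintype_card, Fintype.card_subtype]
    congr 1
    ext y
    simp only [Finset.mem_biUnion, Finset.mem_filter, Finset.mem_univ, true_and]
    constructor
    · rintro ⟨q, hq⟩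
      exact hstab p q y hq
    · intro hy
      refine ⟨⟨y * p * y⁻¹, hnorm y hy p p.2⟩, ?_⟩
      have hz : y * z * y⁻¹ = z := mul_inv_eq_iff_eq_mul.2 (mem_centralizer_singleton_iff.1 hy)
      show y * (z * p) * y⁻¹ = z * (y * p * y⁻¹)
      conv_rhs => rw [← hz]
      group
  apply Complex.ofReal_injective
  push_cast
  calc ∑ χ : Cfsg.IrrCharacter G, ((‖∑ p : O, (χ : G → ℂ) (z * p)‖ : ℂ)) ^ 2
      = ∑ χ : Cfsg.IrrCharacter G, ∑ p : O, ∑ q : O,
          (χ : G → ℂ) (z * p) * conj ((χ : G → ℂ) (z * q)) := by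
        refine Finset.sum_congr rfl fun χ _ => ?_
        rw [← Complex.mul_conj', map_sum, Finset.sum_mul_sum]
    _ = ∑ p : O, (Nat.card (centralizer ({z} : Set G)) : ℂ) := by
        rw [Finset.sum_comm]
        refine Finset.sum_congr rfl fun p _ => ?_
        rw [Finset.sum_comm]
        exact key p
    _ = _ := by
        rw [Finset.sum_const, Finset.card_univ, nsmul_eq_mul, Nat.card_eq_fintype_card (α := O)]

end Cfsg.FoursCent
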