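import Cfsg.Agent.InvolCalc.FoursCent.Dihedral

/-!
The count in the dihedral case: `z` has three conjugates.
-/

set_option autoImplicit false
set_option linter.unusedSectionVars false

namespace Cfsg.FoursCent

open Subgroup Cfsg.Lib.Chars
open scoped ComplexConjugate

universe u

variable {G : Type u} [Group G] [Finite G]

open scoped Classical in
/-- The linear character of an index two subgroup. -/
noncomputable def signOf (K : Subgroup G) (hK : K.index = 2) : G →* ℂˣ where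
  toFun g := if g ∈ K then 1 else -1
  map_one' := if_pos K.one_mem
  map_mul' a b := by
    have h := Subgroup.mul_mem_iff_of_index_two hK (a := a) (b := b)
    by_cases ha : a ∈ K <;> by_cases hb : b ∈ K <;> simp [h, ha, hb]

namespace BigData

variable (D : BigData G) (hw : D.r * (D.x * D.r * D.x) = 1)
include hw

theorem not_memK_involution {s : G} (hs : s ∈ (D.S : Subgroup G)) (hK : s ∉ D.K) (h : s * s = 1) :
    ∃ i : ℤ, Even i ∧ s = D.x * D.r ^ i := by
  obtain ⟨i, rfl | rfl⟩ := D.shape hs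
  · exfalso
    rcases D.eq_z (zpow_mem (mem_zpowers _) _) h with e | e <;> rw [e] at hK
    · exact hK D.K.one_mem
    · exact hK D.z_memK
  · exact ⟨i, not_not.1 fun hi => hK (D.x_mul_mem_iff.2 hi), rfl⟩

set_option maxHeartbeats 4000000 in
theorem dihedral_case (hnc : ¬ Cfsg.HasNormalPComplement 2 G) :
    ∃ E : Subgroup G, E.Normal ∧ Cfsg.IsElementaryAbelian 2 E ∧ Nat.card E = 4 := by
  classical
  haveI : Fintype G := Fintype.ofFinite G
  haveI := D.hK
  obtain ⟨O, hOC, hOK, hOn, hOodd, hCcard⟩ := D.exists_core hw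
  have hfused := D.fused hw hnc
  set C := centralizer ({D.z} : Set G) with hC
  set Q := D.Q with hQdef
  set q := Nat.card Q with hq
  set m := Nat.card O with hm
  have hmpos : 0 < m := Nat.card_pos
  have hqS : Nat.card (D.S : Subgroup G) = 4 * q := by
    have h1 : ((D.S : Subgroup G) ⊓ D.K).relIndex (D.S : Subgroup G) = 2 := by
      rw [Subgroup.inf_relIndex_left]
      have h0 := Subgroup.relIndex_dvd_index_of_normal D.K (D.S : Subgroup G)
      rw [D.hKi] at h0
      rcases (Nat.dvd_prime Nat.prime_two).1 h0 with e | e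
      · exact absurd (Subgroup.relIndex_eq_one.1 e D.hxS) D.hxK
      · exact e
    have h2 := Subgroup.relIndex_mul_relIndex Q _ _ D.Q_le (inf_le_left : (D.S : Subgroup G) ⊓ D.K ≤ _)
    rw [D.Q_relIndex hw, h1] at h2
    rw [← Subgroup.card_mul_index (Q.subgroupOf (D.S : Subgroup G)),
      Nat.card_congr (Subgroup.subgroupOfEquivOfLe (D.Q_le.trans inf_le_left)).toEquiv,
      ← Subgroup.relIndex, ← h2, ← hq]
    ring
  -- the conjugates of `x` centralising `z`
  have hOS : ∀ a ∈ O, a ∈ (D.S : Subgroup G) → a = 1 := by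
    intro a ha haS
    obtain ⟨i, hi⟩ := IsPGroup.iff_card.1 D.S.isPGroup'
    have h1 := Nat.dvd_gcd (orderOf_dvd_natCard (⟨a, ha⟩ : O)) (show orderOf (⟨a, ha⟩ : O) ∣ 2 ^ i by
      rw [Subgroup.orderOf_mk, ← hi]; exact Subgroup.orderOf_dvd_natCard _ haS)
    have hco : Nat.gcd (Nat.card O) (2 ^ i) = 1 := Nat.Coprime.pow_right i (Nat.coprime_two_right.2 hOodd)
    rw [hco, Nat.dvd_one, orderOf_eq_one_iff] at h1
    exact congrArg Subtype.val h1
  have hsurj : ∀ y ∈ C, ∃ s ∈ (D.S : Subgroup G), ∃ o ∈ O, y = s * o := by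
    let f : ↥(D.S : Subgroup G) × ↥O → ↥C := fun p => ⟨p.1 * p.2, mul_mem (D.le_centralizer p.1.2) (hOC p.2.2)⟩
    have hinj : Function.Injective f := fun p p' h => by
      have h' : (p.1 : G) * p.2 = p'.1 * p'.2 := congrArg Subtype.val h
      have h1 : (p'.1 : G)⁻¹ * p.1 = (p'.2 : G) * (p.2 : G)⁻¹ := by
        rw [eq_mul_inv_iff_mul_eq, mul_assoc, h', inv_mul_cancel_left]
      have h2 := hOS _ (mul_mem p'.2.2 (inv_mem p.2.2)) (h1 ▸ mul_mem (inv_mem p'.1.2) p.1.2)
      have h3 : (p.1 : G) = p'.1 := by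
        rw [← h1] at h2
        exact (inv_mul_eq_one.1 h2).symm
      exact Prod.ext (Subtype.ext h3) (Subtype.ext (mul_left_cancel (h3 ▸ h')))
    have hbij : Function.Bijective f := by
      haveI := Fintype.ofFinite (↥(D.S : Subgroup G) × ↥O)
      haveI := Fintype.ofFinite C
      refine (Fintype.bijective_iff_injective_and_card f).2 ⟨hinj, ?_⟩
      rw [← Nat.card_eq_fintype_card, ← Nat.card_eq_fintype_card, Nat.card_prod, hC, hCcard, mul_comm]
    intro y hy
    obtain ⟨p, hp⟩ := hbij.2 ⟨y, hy⟩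
    exact ⟨p.1, p.1.2, p.2, p.2.2, (congrArg Subtype.val hp).symm⟩
  have hXinv : ∀ y : G, IsConj D.x y → y * y = 1 ∧ y ∉ D.K ∧
      Nat.card (centralizer ({y} : Set G)) = 4 := by
    intro y hy
    obtain ⟨g, rfl⟩ := isConj_iff.1 hy
    refine ⟨?_, fun h => D.hxK ?_, ?_⟩
    · rw [show g * D.x * g⁻¹ * (g * D.x * g⁻¹) = g * (D.x * D.x) * g⁻¹ by group, D.x_sq]
      group
    · have := Subgroup.Normal.conj_mem (H := D.K) inferInstance _ h g⁻¹
      simpa [mul_assoc] using this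
    · refine Eq.trans ?_ D.hC
      refine (Nat.card_congr ((MulAut.conj g).toEquiv.subtypeEquiv fun a => ?_)).symm
      show a ∈ centralizer ({D.x} : Set G) ↔ g * a * g⁻¹ ∈ centralizer ({g * D.x * g⁻¹} : Set G)
      rw [mem_centralizer_singleton_iff, mem_centralizer_singleton_iff,
        show g * a * g⁻¹ * (g * D.x * g⁻¹) = g * (a * D.x) * g⁻¹ by group,
        show g * D.x * g⁻¹ * (g * a * g⁻¹) = g * (D.x * a) * g⁻¹ by group, mul_left_inj, mul_right_inj]
  have hinvO : ∀ y, IsConj D.x y → y ∈ C → ∀ o ∈ O, y * o * y⁻¹ = o⁻¹ := fun y hy hyC =>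
    inverts (hXinv y hy).1 (hXinv y hy).2.2 O hOodd fun o ho => hOn y hyC o ho
  -- normal form of these conjugates
  have hXC : ∀ y : G, (IsConj D.x y ∧ y ∈ C) ↔ ∃ i : ℤ, Even i ∧ ∃ o ∈ O, y = D.x * D.r ^ i * o := by
    intro y
    constructor
    · rintro ⟨hy, hyC⟩
      obtain ⟨s, hs, o, ho, rfl⟩ := hsurj y hyC
      obtain ⟨hsq, hyK, -⟩ := hXinv _ hy
      have hsK : s ∉ D.K := fun h => hyK (mul_mem h (hOK ho))
      have hs2 : s * s = 1 := by
        refine hOS _ ?_ (mul_mem hs hs)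
        have h1 : (s⁻¹ * o * s) ∈ O := by
          simpa using hOn s⁻¹ (inv_mem (D.le_centralizer hs)) o ho
        have h2 : s * s * ((s⁻¹ * o * s) * o) = 1 := by rw [← hsq]; group
        rw [eq_inv_of_mul_eq_one_left h2]
        exact inv_mem (mul_mem h1 ho)
      obtain ⟨i, hi, rfl⟩ := D.not_memK_involution hw hs hsK hs2
      exact ⟨i, hi, o, ho, rfl⟩
    · rintro ⟨i, hi, o, ho, rfl⟩
      have hsC : D.x * D.r ^ i ∈ C := D.le_centralizer (D.refl_mem hw i)
      refine ⟨?_, mul_mem hsC (hOC ho)⟩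
      have hs : IsConj D.x (D.x * D.r ^ i) := D.even_conj hw hi
      -- a square root of `o`
      obtain ⟨p, hp, hpo⟩ : ∃ p ∈ O, p * p = o := by
        obtain ⟨l, hl⟩ := hOodd
        refine ⟨o ^ (l + 1), pow_mem ho _, ?_⟩
        have h1 : o ^ (2 * l + 1) = 1 := by
          have := orderOf_dvd_natCard (⟨o, ho⟩ : O)
          rw [← hm, hl, Subgroup.orderOf_mk] at this
          exact orderOf_dvd_iff_pow_eq_one.1 this
        rw [← pow_add, show l + 1 + (l + 1) = 2 * l + 1 + 1 by omega, pow_succ, h1, one_mul]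
      refine hs.trans (isConj_iff.2 ⟨p⁻¹, ?_⟩)
      rw [inv_inv]
      have h1 := hinvO _ hs hsC p hp
      calc p⁻¹ * (D.x * D.r ^ i) * p
          = D.x * D.r ^ i * p * (D.x * D.r ^ i)⁻¹ * (D.x * D.r ^ i) * p := by rw [h1]
        _ = D.x * D.r ^ i * o := by rw [inv_mul_cancel_right, mul_assoc _ p p, hpo]
  have hXcard : Nat.card {y : G // IsConj D.x y ∧ y ∈ C} = q * m := by
    rw [hq, hm, ← Nat.card_prod]
    refine (Nat.card_congr (Equiv.ofBijective (fun p : Q × O => (⟨D.x * (p.1 : G) * p.2, ?_⟩ :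
      {y : G // IsConj D.x y ∧ y ∈ C})) ⟨?_, ?_⟩)).symm
    · obtain ⟨i, hi, he⟩ := D.mem_Q.1 p.1.2
      exact (hXC _).2 ⟨i, hi, p.2, p.2.2, by rw [he]⟩
    · intro p p' h
      have h' : (p.1 : G) * p.2 = p'.1 * p'.2 := mul_left_cancel (a := D.x) (by
        simpa [mul_assoc] using congrArg Subtype.val h)
      have h1 : (p'.1 : G)⁻¹ * p.1 = (p'.2 : G) * (p.2 : G)⁻¹ := by
        rw [eq_mul_inv_iff_mul_eq, mul_assoc, h', inv_mul_cancel_left]
      have h2 := hOS _ (mul_mem p'.2.2 (inv_mem p.2.2))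
        (h1 ▸ (mul_mem (inv_mem (D.Q_le p'.1.2).1) (D.Q_le p.1.2).1))
      have h3 : (p.1 : G) = p'.1 := by
        rw [← h1] at h2
        exact (inv_mul_eq_one.1 h2).symm
      exact Prod.ext (Subtype.ext h3) (Subtype.ext (mul_left_cancel (h3 ▸ h')))
    · rintro ⟨y, hy⟩
      obtain ⟨i, hi, o, ho, rfl⟩ := (hXC y).1 hy
      exact ⟨(⟨_, D.mem_Q.2 ⟨i, hi, rfl⟩⟩, ⟨o, ho⟩), Subtype.ext rfl⟩
  -- products equal to `z p`
  have hzO : ∀ p : O, Nat.card
      {w : G × G // IsConj D.x w.1 ∧ IsConj D.x w.2 ∧ w.1 * w.2 = D.z * p} = q * m := by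
    intro p
    rw [← hXcard]
    have hzp : D.z * (p : G) = p * D.z := (mem_centralizer_singleton_iff.1 (hOC p.2)).symm
    -- `z` is a power of `z p`
    have hpow : ∀ y : G, y * (D.z * p) * y⁻¹ = (D.z * p)⁻¹ → y ∈ C := by
      intro y hy
      have hc : Commute D.z (p : G) := hzp
      have hpm : (p : G) ^ m = 1 := by
        have := orderOf_dvd_natCard p
        rw [← orderOf_coe, ← hm] at this
        exact orderOf_dvd_iff_pow_eq_one.1 this
      have hzm : (D.z * (p : G)) ^ m = D.z := by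
        obtain ⟨l, hl⟩ := hOodd
        rw [hc.mul_pow, hpm, mul_one, show m = 2 * l + 1 from hl, pow_succ, pow_mul, pow_two, D.z_sq,
          one_pow, one_mul]
      have := congrArg (fun a => a ^ m) hy
      simp only [inv_pow, hzm, D.z_inv, conj_pow] at this
      exact mem_centralizer_singleton_iff.2 (mul_inv_eq_iff_eq_mul.1 this)
    have hback : ∀ y : G, IsConj D.x y → y ∈ C → IsConj D.x (y * (D.z * p)) := by
      intro y hy hyC
      obtain ⟨i, hi, o, ho, rfl⟩ := (hXC y).1 ⟨hy, hyC⟩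
      obtain ⟨j, hj, hje⟩ : ∃ j : ℤ, Even j ∧ D.z = D.r ^ j :=
        ⟨(D.N / 2 : ℕ), D.pow_mem_iff.1 (by rw [zpow_natCast]; exact D.z_memK), by rw [zpow_natCast]; rfl⟩
      refine ((hXC _).2 ⟨i + j, hi.add hj, o * p, mul_mem ho p.2, ?_⟩).1
      have hoz : o * D.z = D.z * o := mem_centralizer_singleton_iff.1 (hOC ho)
      rw [zpow_add, ← hje,
        show D.x * D.r ^ i * o * (D.z * (p : G)) = D.x * D.r ^ i * (o * D.z) * p by group, hoz]
      group
    refine Nat.card_congr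
      { toFun := fun w => ⟨w.1.1, w.2.1, hpow _ ?_⟩
        invFun := fun y => ⟨(y.1, y.1 * (D.z * p)), y.2.1, hback _ y.2.1 y.2.2, ?_⟩
        left_inv := ?_
        right_inv := fun y => rfl }
    · rcases w with ⟨⟨y₁, y₂⟩, h1, h2, h3⟩
      show y₁ * (D.z * p) * y₁⁻¹ = (D.z * p)⁻¹
      obtain ⟨s1, -⟩ := hXinv _ h1
      obtain ⟨s2, -⟩ := hXinv _ h2
      rw [← h3, mul_inv_rev, inv_eq_of_mul_eq_one_right s1, inv_eq_of_mul_eq_one_right s2]
      rw [show y₁ * (y₁ * y₂) * y₁ = y₁ * y₁ * y₂ * y₁ by group, s1, one_mul]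
    · rw [← mul_assoc, (hXinv _ y.2.1).1, one_mul]
    · rintro ⟨⟨a, b⟩, h1, h2, h3⟩
      apply Subtype.ext
      show (a, a * (D.z * p)) = (a, b)
      rw [← h3, ← mul_assoc, (hXinv a h1).1, one_mul]
  -- characters
  set f := signOf D.K D.hKi with hf
  have hfK : ∀ g ∈ D.K, (f g : ℂ) = 1 := fun g hg => by simp [hf, signOf, hg]
  obtain ⟨l, χ, χ', hl, hχ', hsq, n1, n2, n3, n4, n5, n6, hzero⟩ := support_linear D.hx D.hC f
    (by simp [hf, signOf, D.hxK]) (fun g => by
      by_cases hg : g ∈ D.K <;> simp [hf, signOf, hg])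
  set d := deg (χ : G → ℂ) with hd
  have hd1 : (χ : G → ℂ) 1 = (d : ℂ) := irr_apply_one_eq_deg χ
  have hdpos : 0 < d := deg_irr_pos χ
  obtain ⟨a, ha⟩ := exists_int χ D.order_z
  have hG : Nat.card G = Nat.card C * C.index := C.card_mul_index.symm
  set w := C.index with hwdef
  have hformula : ∀ p : O, (w : ℂ) * ((d : ℂ) + conj ((χ : G → ℂ) (D.z * p))) = 2 * d := by
    intro p
    have h := pairs_formula D.hC (D.z * (p : G))
    rw [hzO p, ← Finset.sum_subset (Finset.subset_univ ({principal G, l, χ, χ'} : Finset _))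
      (fun ψ _ hψ => by rw [hzero ψ (by simpa using hψ)]; simp),
      Finset.sum_insert (by simp [n1, n2, n3]), Finset.sum_insert (by simp [n4, n5]),
      Finset.sum_pair n6, hχ' D.x, hχ' (D.z * p), hχ' 1, hl, hl, hl,
      hfK _ (mul_mem D.z_memK (hOK p.2)), hfK 1 D.K.one_mem,
      show (f D.x : ℂ) = -1 by simp [hf, signOf, D.hxK], hG, hC, hCcard, hqS, hd1] at h
    simp only [principal, map_one, one_mul, mul_one, mul_neg, neg_neg, div_one, Nat.cast_mul,
      Nat.cast_ofNat] at h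
    rw [show (-1 * (χ : G → ℂ) D.x) * (-1 * (χ : G → ℂ) D.x) = 1 by linear_combination hsq, hsq,
      one_mul] at h
    have hd0 : (d : ℂ) ≠ 0 := by exact_mod_cast hdpos.ne'
    have hm0 : (m : ℂ) ≠ 0 := by exact_mod_cast hmpos.ne'
    have hq0 : (q : ℂ) ≠ 0 := by exact_mod_cast (Nat.card_pos : 0 < q).ne'
    field_simp at h
    linear_combination -(1/8 : ℂ) * h
  -- `C` has odd index
  have hwodd : Odd w := by
    rw [← Nat.not_even_iff_odd, even_iff_two_dvd]
    exact fun h => D.S.not_dvd_index (h.trans (Subgroup.index_dvd_of_le D.le_centralizer))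
  have hw0 : (w : ℂ) ≠ 0 := by exact_mod_cast hwodd.pos.ne'
  have hint : (w : ℤ) * (d + a) = 2 * d := by
    have h := hformula 1
    rw [OneMemClass.coe_one, mul_one, ha, map_intCast] at h
    apply Int.cast_injective (α := ℂ)
    push_cast
    linear_combination h
  have hconst : ∀ p : O, (χ : G → ℂ) (D.z * p) = (a : ℂ) := by
    intro p
    have h := hformula p
    have h' : (w : ℂ) * ((d : ℂ) + (a : ℂ)) = 2 * d := by exact_mod_cast hint
    have e : conj ((χ : G → ℂ) (D.z * p)) = (a : ℂ) :=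
      add_left_cancel (mul_left_cancel₀ hw0 (h.trans h'.symm))
    rw [← Complex.conj_conj ((χ : G → ℂ) (D.z * p)), e, map_intCast]
  -- the norm
  have hnorm : (2 : ℤ) + 2 * a ^ 2 ≤ 4 * q := by
    haveI : Fintype O := Fintype.ofFinite O
    have hns := norm_sum (z := D.z) O (fun p p' y hy => by

      -- `z` is the 2-part
      have hc : ∀ p : O, (D.z * (p : G)) ^ m = D.z := fun p => by
        have hcp : Commute D.z (p : G) := (mem_centralizer_singleton_iff.1 (hOC p.2)).symm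
        have hpm : (p : G) ^ m = 1 := by
          have := orderOf_dvd_natCard p
          rw [← orderOf_coe, ← hm] at this
          exact orderOf_dvd_iff_pow_eq_one.1 this
        obtain ⟨l, hl⟩ := hOodd
        rw [hcp.mul_pow, hpm, mul_one, show m = 2 * l + 1 from hl, pow_succ, pow_mul, pow_two, D.z_sq,
          one_pow, one_mul]
      have := congrArg (fun a => a ^ m) hy
      simp only [hc, conj_pow] at this
      exact mem_centralizer_singleton_iff.2 (mul_inv_eq_iff_eq_mul.1 this))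
      (fun y hy p hp => hOn y hy p hp)
    have hle : ∑ ψ ∈ ({principal G, l, χ, χ'} : Finset _),
        ‖∑ p : O, (ψ : G → ℂ) (D.z * p)‖ ^ 2 ≤
        ∑ ψ : Cfsg.IrrCharacter G, ‖∑ p : O, (ψ : G → ℂ) (D.z * p)‖ ^ 2 :=
      Finset.sum_le_sum_of_subset_of_nonneg (Finset.subset_univ _) fun _ _ _ => sq_nonneg _
    have hval : ∀ (ψ : Cfsg.IrrCharacter G) (c : ℤ), (∀ p : O, (ψ : G → ℂ) (D.z * p) = (c : ℂ)) →
        ‖∑ p : O, (ψ : G → ℂ) (D.z * p)‖ ^ 2 = (m : ℝ) ^ 2 * (c : ℝ) ^ 2 := by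
      intro ψ c hc
      rw [Finset.sum_congr rfl fun p _ => hc p, Finset.sum_const, nsmul_eq_mul, Finset.card_univ,
        ← Nat.card_eq_fintype_card, ← hm, norm_mul, Complex.norm_natCast, Complex.norm_intCast,
        mul_pow, sq_abs]
    rw [Finset.sum_insert (by simp [n1, n2, n3]), Finset.sum_insert (by simp [n4, n5]),
      Finset.sum_pair n6, hns, hval (principal G) 1 (fun p => by simp [principal]),
      hval l 1 (fun p => by rw [hl, hfK _ (mul_mem D.z_memK (hOK p.2))]; simp),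
      hval χ a hconst, hval χ' a (fun p => by
        rw [hχ', hfK _ (mul_mem D.z_memK (hOK p.2)), one_mul, hconst]), hCcard, hqS, ← hm] at hle
    push_cast at hle
    have hm' : (0 : ℝ) < (m : ℝ) ^ 2 := by positivity
    have h' : (2 : ℝ) + 2 * (a : ℝ) ^ 2 ≤ 4 * q := by nlinarith
    exact_mod_cast h'
  -- conjugates of `z`
  let Z := {y : G // IsConj D.z y}
  have hZ : Nat.card Z = w := by
    have h := card_isConj_mul D.z
    rw [← hC, hG, mul_comm] at h
    exact Nat.eq_of_mul_eq_mul_left Nat.card_pos h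
  have hrefZ : ∀ i : ℤ, ¬ Even i → IsConj D.z (D.x * D.r ^ i) := fun i hi => by
    obtain ⟨c, -, hc⟩ := D.odd_conj hw hi
    exact hfused.symm.trans (isConj_iff.2 ⟨c, hc⟩)
  let g : Option Q → Z := fun o => o.elim ⟨D.z, IsConj.refl _⟩
    fun b => ⟨D.x * D.r * (b : G), by
      obtain ⟨i, hi, he⟩ := D.mem_Q.1 b.2
      rw [he, mul_assoc, ← zpow_one_add]
      exact hrefZ _ (by simp [parity_simps, hi])⟩
  have hne : ∀ b : Q, D.x * D.r * (b : G) ≠ D.z := fun b h => by
    obtain ⟨i, -, he⟩ := D.mem_Q.1 b.2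
    rw [he, mul_assoc, ← zpow_one_add] at h
    exact D.xr_ne_z hw _ h
  have hginj : Function.Injective g := by
    rintro (_ | b) (_ | b') h
    · rfl
    · exact absurd (congrArg Subtype.val h).symm (hne b')
    · exact absurd (congrArg Subtype.val h) (hne b)
    · exact congrArg some (Subtype.ext (mul_left_cancel (congrArg Subtype.val h)))
  have hwq : q + 1 ≤ w := by
    rw [← hZ, hq, ← Finite.card_option]
    exact Nat.card_le_card_of_injective g hginj
  -- arithmetic
  have hq2 : 2 ≤ q ∧ 2 ∣ q := by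
    have hzQ : D.z ∈ Q := D.mem_Q.2 ⟨(D.N / 2 : ℕ), D.pow_mem_iff.1 (by rw [zpow_natCast]; exact D.z_memK), by rw [zpow_natCast]; rfl⟩
    have h2 : 2 ∣ q := by rw [hq, ← D.order_z]; exact Subgroup.orderOf_dvd_natCard _ hzQ
    exact ⟨Nat.le_of_dvd Nat.card_pos h2, h2⟩
  obtain ⟨k, hk⟩ : (w : ℤ) ∣ (d : ℤ) := by
    have h1 : (w : ℤ) ∣ 2 * (d : ℤ) := ⟨_, hint.symm⟩
    refine Int.dvd_of_dvd_mul_right_of_gcd_one h1 ?_
    exact Nat.coprime_two_right.2 hwodd
  have hwq' : (q : ℤ) + 1 ≤ w := by exact_mod_cast hwq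
  have hk1 : 1 ≤ k := by
    have : 0 < (w : ℤ) * k := by rw [← hk]; exact_mod_cast hdpos
    have : 0 < k := pos_of_mul_pos_right this (by positivity)
    omega
  have haeq : a = k * (2 - w) := by
    have hwz : (w : ℤ) ≠ 0 := by exact_mod_cast hwodd.pos.ne'
    apply mul_left_cancel₀ hwz
    rw [hk] at hint
    linear_combination hint
  have hwle : ((w : ℤ) - 2) ^ 2 ≤ a ^ 2 := by
    rw [haeq]
    nlinarith [sq_nonneg ((w : ℤ) - 2), mul_le_mul hk1 hk1 (by norm_num) (by omega)]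
  have hq' : q = 2 := by
    obtain ⟨h2, l, hl'⟩ := hq2
    by_contra h
    have h4 : (4 : ℤ) ≤ q := by
      have : 2 ≤ l := by omega
      omega
    nlinarith [mul_le_mul (show (q : ℤ) - 1 ≤ w - 2 by omega) (show (q : ℤ) - 1 ≤ w - 2 by omega) (by omega) (by omega)]
  have hw3 : w = 3 := by
    have h3 : 3 ≤ w := by omega
    by_contra h
    obtain ⟨t, ht⟩ := hwodd
    have h5 : (5 : ℤ) ≤ w := by omega
    rw [hq'] at hnorm
    push_cast at hnorm
    nlinarith [mul_le_mul (show (3 : ℤ) ≤ w - 2 by omega) (show (3 : ℤ) ≤ w - 2 by omega) (by omega) (by omega)]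
  have hgsurj : Function.Surjective g := by
    haveI := Fintype.ofFinite (Option Q)
    haveI := Fintype.ofFinite Z
    refine ((Fintype.bijective_iff_injective_and_card g).2 ⟨hginj, ?_⟩).2
    rw [← Nat.card_eq_fintype_card, ← Nat.card_eq_fintype_card, Finite.card_option, ← hq, hZ, hq', hw3]
  set E := (D.S : Subgroup G) ⊓ D.K with hE
  have hEcard : Nat.card E = 4 := by
    rw [← Subgroup.card_mul_index (Q.subgroupOf E),
      Nat.card_congr (Subgroup.subgroupOfEquivOfLe D.Q_le).toEquiv, ← Subgroup.relIndex,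
      D.Q_relIndex hw, ← hq, hq']
  have hQall : ∀ b ∈ Q, b = 1 ∨ b = D.z := by
    intro b hb
    obtain ⟨i, -, he⟩ := D.mem_Q.1 hb
    have h1 : b ^ 2 = 1 := by
      rw [← hq']
      exact congrArg Subtype.val (pow_card_eq_one' (x := (⟨b, hb⟩ : Q)))
    rw [he] at h1 ⊢
    exact D.eq_z (zpow_mem (mem_zpowers _) _) (by rw [← pow_two]; exact h1)
  have hsq2 : ∀ e ∈ E, e * e = 1 := by
    intro e he
    rcases D.shapeK he with h | ⟨i, -, rfl⟩
    · rcases hQall e h with e | e <;> rw [e]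
      exacts [one_mul _, D.z_sq]
    · exact D.refl_sq hw i
  refine ⟨E, ⟨?_⟩, ⟨⟨⟨fun u v => Subtype.ext ?_⟩⟩, fun e he => by rw [pow_two]; exact hsq2 e he⟩, hEcard⟩
  · intro e he h
    have hcl : IsConj D.z e ∨ e = 1 := by
      rcases D.shapeK he with h | ⟨i, hi, rfl⟩
      · rcases hQall e h with e' | e'
        exacts [Or.inr e', Or.inl (e' ▸ IsConj.refl _)]
      · exact Or.inl (hrefZ i hi)
    rcases hcl with hcl | rfl
    · obtain ⟨o, ho⟩ := hgsurj ⟨h * e * h⁻¹, hcl.trans (isConj_iff.2 ⟨h, rfl⟩)⟩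
      rw [← show ((g o : Z) : G) = h * e * h⁻¹ from congrArg Subtype.val ho]
      cases o with
      | none => exact ⟨D.z_memS, D.z_memK⟩
      | some b =>
        refine ⟨mul_mem (mul_mem D.hxS D.hrS) (D.Q_le b.2).1, mul_mem ?_ (D.Q_le b.2).2⟩
        rw [← zpow_one D.r]
        exact D.x_mul_mem_iff.2 (by decide)
    · simpa using E.one_mem
  · have h1 := hsq2 _ (mul_mem u.2 v.2)
    have hu := inv_eq_of_mul_eq_one_right (hsq2 _ u.2)
    have hv := inv_eq_of_mul_eq_one_right (hsq2 _ v.2)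
    show (u : G) * v = v * u
    rw [← inv_eq_of_mul_eq_one_right h1, mul_inv_rev, hu, hv]

end BigData

end Cfsg.FoursCent
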