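import Cfsg.Agent.InvolCalc.FoursCent.Complement
import Cfsg.Agent.InvolCalc.FoursCent.Chars
import Cfsg.Agent.InvolCalc.KleinCentralizer
import Cfsg.Agent.S0225
import Cfsg.Prelude

/-!
The 2-structure of a group with a four-group as centraliser of an involution and a bigger
Sylow 2-subgroup.
-/

set_option autoImplicit false
set_option linter.unusedSectionVars false

namespace Cfsg.FoursCent

open Subgroup

universe u

variable {G : Type u} [Group G] [Finite G]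

/-- An odd normal subgroup of 2-power index is a normal 2-complement. -/
theorem hasComplement_of (O : Subgroup G) (hn : O.Normal) (hodd : Odd (Nat.card O))
    (hidx : ∃ k : ℕ, O.index = 2 ^ k) : Cfsg.HasNormalPComplement 2 G := by
  haveI : Fact (Nat.Prime 2) := ⟨Nat.prime_two⟩
  obtain ⟨k, hk⟩ := hidx
  obtain ⟨S⟩ : Nonempty (Sylow 2 G) := inferInstance
  refine ⟨S, O, hn, ?_⟩
  refine Subgroup.isComplement'_of_coprime ?_ ?_
  · rw [S.card_eq_multiplicity, ← O.card_mul_index, hk]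
    congr 1
    congr 1
    rw [Nat.factorization_mul hodd.pos.ne' (by positivity), Finsupp.add_apply,
      Nat.factorization_eq_zero_of_not_dvd hodd.not_two_dvd_nat,
      Nat.Prime.factorization_pow Nat.prime_two, Finsupp.single_eq_same, zero_add]
  · obtain ⟨i, hi⟩ := IsPGroup.iff_card.1 S.isPGroup'
    rw [hi]
    exact Nat.Coprime.pow_right i (Nat.coprime_two_right.2 hodd)

/-- The data of the large case. -/
structure BigData (G : Type u) [Group G] where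
  S : Sylow 2 G
  K : Subgroup G
  hK : K.Normal
  hKi : K.index = 2
  x : G
  hx : orderOf x = 2
  hxS : x ∈ (S : Subgroup G)
  hxK : x ∉ K
  hC : Nat.card (centralizer ({x} : Set G)) = 4
  r : G
  hrS : r ∈ (S : Subgroup G)
  hrK : r ∉ K
  /-- `S = ⟨r⟩ ∪ x⟨r⟩` -/
  hcover : ∀ s ∈ (S : Subgroup G), s ∈ zpowers r ∨ x * s ∈ zpowers r
  hxr : x ∉ zpowers r
  /-- the order of `r` -/
  N : ℕ
  hN : orderOf r = N
  hN4 : 4 ≤ N
  hNpow : ∃ k : ℕ, N = 2 ^ k
  hnorm : ∀ a ∈ zpowers r, x * a * x ∈ zpowers r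
  hfix : ∀ a ∈ zpowers r, x * a * x = a → a * a = 1

namespace BigData

variable (D : BigData G)

theorem x_sq : D.x * D.x = 1 := by
  rw [← pow_two, ← D.hx, pow_orderOf_eq_one]

theorem x_inv : D.x⁻¹ = D.x := inv_eq_of_mul_eq_one_right D.x_sq

theorem x_ne : D.x ≠ 1 := fun h => by
  have := D.hx
  rw [h, orderOf_one] at this
  omega

/-- The involution of `⟨r⟩`. -/
def z : G := D.r ^ (D.N / 2)

theorem two_dvd : 2 ∣ D.N := by
  obtain ⟨k, hk⟩ := D.hNpow
  have := D.hN4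
  rcases k with - | k
  · simp [hk] at this
  · exact ⟨2 ^ k, by rw [hk, pow_succ, mul_comm]⟩

theorem z_sq : D.z * D.z = 1 := by
  rw [z, ← pow_add, ← two_mul, Nat.mul_div_cancel' D.two_dvd, ← D.hN, pow_orderOf_eq_one]

theorem z_mem : D.z ∈ zpowers D.r := pow_mem (mem_zpowers _) _

theorem z_ne : D.z ≠ 1 := fun h => by
  have h1 := orderOf_dvd_of_pow_eq_one h
  rw [D.hN] at h1
  have := Nat.le_of_dvd (by have := D.hN4; omega) h1
  have := D.hN4
  omega

theorem order_z : orderOf D.z = 2 :=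
  haveI : Fact (Nat.Prime 2) := ⟨Nat.prime_two⟩
  orderOf_eq_prime (by rw [pow_two]; exact D.z_sq) D.z_ne

theorem z_inv : D.z⁻¹ = D.z := inv_eq_of_mul_eq_one_right D.z_sq

/-- The only involution of `⟨r⟩`. -/
theorem eq_z {a : G} (ha : a ∈ zpowers D.r) (h : a * a = 1) : a = 1 ∨ a = D.z := by
  obtain ⟨i, hi⟩ := mem_zpowers_iff.1 ha
  subst hi
  rw [← zpow_add, ← orderOf_dvd_iff_zpow_eq_one, D.hN] at h
  obtain ⟨t, ht⟩ := D.two_dvd
  rw [ht, Nat.cast_mul] at h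
  obtain ⟨s, hs⟩ : (t : ℤ) ∣ i := by
    obtain ⟨c, hc⟩ := h
    exact ⟨c, by push_cast at hc; linarith⟩
  have hz : D.z = D.r ^ (t : ℤ) := by
    rw [z, ht, zpow_natCast]
    congr 1
    omega
  rcases Int.even_or_odd' s with ⟨c, rfl | rfl⟩
  · left
    rw [hs, ← orderOf_dvd_iff_zpow_eq_one, D.hN, ht]
    exact ⟨c, by push_cast; ring⟩
  · right
    have hone : D.r ^ ((t : ℤ) * (2 * c)) = 1 := by
      rw [← orderOf_dvd_iff_zpow_eq_one, D.hN, ht]
      exact ⟨c, by push_cast; ring⟩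
    rw [hz, hs, mul_add, mul_one, zpow_add, hone, one_mul]

theorem comm_z : D.x * D.z * D.x = D.z := by
  have h : D.x * D.z * D.x * (D.x * D.z * D.x) = 1 := by
    calc D.x * D.z * D.x * (D.x * D.z * D.x) = D.x * D.z * (D.x * D.x) * D.z * D.x := by group
      _ = 1 := by rw [D.x_sq, mul_one, mul_assoc D.x, D.z_sq, mul_one, D.x_sq]
  rcases D.eq_z (D.hnorm _ D.z_mem) h with e | e
  · exfalso
    apply D.z_ne
    calc D.z = D.x * (D.x * D.z * D.x) * D.x := by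
          rw [show D.x * (D.x * D.z * D.x) * D.x = D.x * D.x * D.z * (D.x * D.x) by group,
            D.x_sq, one_mul, mul_one]
      _ = 1 := by rw [e, mul_one, D.x_sq]
  · exact e

theorem conj_zpow (a : G) (n : ℤ) : D.x * a ^ n * D.x = (D.x * a * D.x) ^ n := by
  conv_lhs => arg 2; rw [← D.x_inv]
  conv_rhs => arg 1; arg 2; rw [← D.x_inv]
  rw [← MulAut.conj_apply, map_zpow, MulAut.conj_apply]

/-- The two possibilities for `r^x`. -/
theorem w_cases : D.r * (D.x * D.r * D.x) = 1 ∨ D.r * (D.x * D.r * D.x) = D.z := by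
  have hc : D.r * (D.x * D.r * D.x) = D.x * D.r * D.x * D.r := by
    obtain ⟨j, hj⟩ := mem_zpowers_iff.1 (D.hnorm _ (mem_zpowers D.r))
    rw [← hj, ← zpow_one_add, ← zpow_add_one, add_comm]
  have hw : D.r * (D.x * D.r * D.x) ∈ zpowers D.r :=
    mul_mem (mem_zpowers _) (D.hnorm _ (mem_zpowers _))
  refine D.eq_z hw (D.hfix _ hw ?_)
  calc D.x * (D.r * (D.x * D.r * D.x)) * D.x = D.x * D.r * D.x * D.r * (D.x * D.x) := by group
    _ = D.r * (D.x * D.r * D.x) := by rw [D.x_sq, mul_one, hc]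

theorem even_mem {i : ℤ} (hi : Even i) : D.r ^ i ∈ D.K := by
  obtain ⟨c, rfl⟩ := hi
  rw [zpow_add]
  exact Subgroup.mul_self_mem_of_index_two D.hKi _

theorem odd_not_mem {i : ℤ} (hi : ¬ Even i) : D.r ^ i ∉ D.K := by
  obtain ⟨c, rfl⟩ := Int.not_even_iff_odd.1 hi
  intro h
  have h1 : D.r ^ (2 * c) ∈ D.K := D.even_mem ⟨c, two_mul c⟩
  rw [zpow_add_one, D.K.mul_mem_cancel_left h1] at h
  exact D.hrK h

theorem pow_mem_iff {i : ℤ} : D.r ^ i ∈ D.K ↔ Even i :=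
  ⟨fun h => by by_contra hi; exact D.odd_not_mem hi h, D.even_mem⟩

theorem x_mul_mem_iff {i : ℤ} : D.x * D.r ^ i ∈ D.K ↔ ¬ Even i := by
  rw [Subgroup.mul_mem_iff_of_index_two D.hKi, D.pow_mem_iff]
  simp [D.hxK]

/-- Shape of the elements of `S`. -/
theorem shape {s : G} (hs : s ∈ (D.S : Subgroup G)) :
    ∃ i : ℤ, s = D.r ^ i ∨ s = D.x * D.r ^ i := by
  rcases D.hcover s hs with h | h <;> obtain ⟨i, hi⟩ := mem_zpowers_iff.1 h
  · exact ⟨i, Or.inl hi.symm⟩
  · refine ⟨i, Or.inr ?_⟩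
    rw [hi, ← mul_assoc, D.x_sq, one_mul]

theorem z_memK : D.z ∈ D.K := by
  -- `z` is a square in `⟨r⟩`
  obtain ⟨k, hk⟩ := D.hNpow
  have := D.hN4
  rcases k with - | - | k
  · simp [hk] at this
  · simp [hk] at this
  · rw [z, hk, pow_succ, Nat.mul_div_cancel _ two_pos, pow_succ, mul_two, pow_add]
    exact Subgroup.mul_self_mem_of_index_two D.hKi _

theorem z_memS : D.z ∈ (D.S : Subgroup G) := pow_mem D.hrS _

/-- Without fours group in `K`, an involution of `K` generates a normal subgroup of `G`. -/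
theorem quaternion_case (hw : D.r * (D.x * D.r * D.x) = D.z) :
    (zpowers D.z).Normal := by
  classical
  haveI : Fact (Nat.Prime 2) := ⟨Nat.prime_two⟩
  haveI := D.hK
  have hxa : ∀ i : ℤ, D.x * D.r ^ i * D.x = D.z ^ i * D.r ^ (-i) := by
    intro i
    have hr : D.x * D.r * D.x = D.z * D.r⁻¹ := by
      have hzc : D.z * D.r⁻¹ = D.r⁻¹ * D.z :=
        (((Commute.refl D.r).pow_left (D.N / 2)).inv_right : Commute D.z D.r⁻¹)
      rw [hzc, ← hw, inv_mul_cancel_left]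
    rw [D.conj_zpow, hr, Commute.mul_zpow, inv_zpow, zpow_neg]
    exact (((Commute.refl D.r).pow_left (D.N / 2)).inv_right : Commute D.z D.r⁻¹)
  -- the exponent is divisible by eight
  have h8 : 4 ∣ D.N / 2 := by
    obtain ⟨k, hk⟩ := D.hNpow
    have h4 := D.hN4
    rcases k with - | - | - | k
    · simp [hk] at h4
    · simp [hk] at h4
    · exfalso
      have hN4' : D.N = 4 := by rw [hk]; norm_num
      have hz2 : D.z = D.r ^ (2 : ℤ) := by rw [z, hN4']; norm_cast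
      have hr : D.x * D.r * D.x = D.r := by
        have := hxa 1
        simpa [hz2, pow_two, mul_assoc] using this
      have h2 := D.hfix _ (mem_zpowers _) hr
      have h3 := orderOf_dvd_of_pow_eq_one (show D.r ^ 2 = 1 by rw [pow_two]; exact h2)
      rw [D.hN, hN4'] at h3
      norm_num at h3
    · exact ⟨2 ^ k, by rw [hk, pow_succ, pow_succ, pow_succ]; omega⟩
  -- one involution in `S ⊓ K`
  have huniq : ∀ t ∈ (D.S : Subgroup G), t ∈ D.K → t * t = 1 → t = 1 ∨ t = D.z := by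
    intro t htS htK ht
    obtain ⟨i, rfl | rfl⟩ := D.shape htS
    · exact D.eq_z (zpow_mem (mem_zpowers _) _) ht
    · exfalso
      obtain ⟨c, hc⟩ := Int.not_even_iff_odd.1 (D.x_mul_mem_iff.1 htK)
      apply D.z_ne
      have hzz : D.z ^ i = D.z := by
        rw [hc, zpow_add_one, zpow_mul, show D.z ^ (2 : ℤ) = 1 by rw [zpow_two]; exact D.z_sq,
          one_zpow, one_mul]
      calc D.z = D.z ^ i * D.r ^ (-i) * D.r ^ i := by
            rw [hzz, mul_assoc, ← zpow_add, neg_add_cancel, zpow_zero, mul_one]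
        _ = 1 := by rw [← hxa i, mul_assoc (D.x * D.r ^ i) D.x, ht]
  have hinto : ∀ R : Subgroup G, IsPGroup 2 R → R ≤ D.K →
      ∃ g : G, R.map (MulAut.conj g).toMonoidHom ≤ (D.S : Subgroup G) ⊓ D.K := by
    intro R hR hRK
    obtain ⟨T, hT⟩ := hR.exists_le_sylow
    obtain ⟨g, hg⟩ := MulAction.exists_smul_eq G T D.S
    refine ⟨g, ?_⟩
    rintro _ ⟨a, ha, rfl⟩
    refine ⟨?_, Subgroup.Normal.conj_mem inferInstance a (hRK ha) g⟩
    rw [← hg, Sylow.coe_subgroup_smul]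
    exact ⟨a, hT ha, rfl⟩
  obtain ⟨z', hz', N₁, hN₁, hN₁odd, hcom⟩ := Cfsg.Agent.S0225.result (G := D.K)
    (even_iff_two_dvd.2 (by
      have h := orderOf_dvd_natCard (⟨D.z, D.z_memK⟩ : D.K)
      rwa [← orderOf_coe, D.order_z] at h)) (by
    intro E hE
    set E' := E.map D.K.subtype with hE'
    have hcard : Nat.card E' = 4 := by
      rw [Nat.card_congr (E.equivMapOfInjective _ D.K.subtype_injective).toEquiv.symm, hE.card_four]
    have hsq : ∀ a ∈ E', a * a = 1 := by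
      rintro _ ⟨a, ha, rfl⟩
      have h := Monoid.pow_exponent_eq_one (⟨a, ha⟩ : E)
      rw [hE.exponent_two, pow_two] at h
      exact congrArg (fun q : E => ((q : D.K) : G)) h
    obtain ⟨g, hg⟩ := hinto E' (IsPGroup.of_card (n := 2) (by rw [hcard]; norm_num))
      (Subgroup.map_subtype_le _)
    have hle : E'.map (MulAut.conj g).toMonoidHom ≤ zpowers D.z := by
      rintro _ ⟨a, ha, rfl⟩
      have h := hg ⟨a, ha, rfl⟩
      rcases huniq _ h.1 h.2 (by rw [← map_mul, hsq a ha, map_one]) with e | e <;> rw [e]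
      exacts [one_mem _, mem_zpowers _]
    have := Subgroup.card_le_of_le hle
    rw [Nat.card_congr (E'.equivMapOfInjective _ (MulAut.conj g).injective).toEquiv.symm,
      hcard, Nat.card_zpowers, D.order_z] at this
    omega)
  -- move `z'` to `z`
  obtain ⟨g, hg⟩ := hinto (zpowers (z' : G))
    (IsPGroup.of_card (n := 1) (by rw [Nat.card_zpowers, orderOf_coe, hz', pow_one]))
    (by rw [zpowers_le]; exact z'.2)
  have hgz : g * (z' : G) * g⁻¹ = D.z := by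
    have h := hg ⟨(z' : G), mem_zpowers _, rfl⟩
    have hsq : (z' : G) * z' = 1 := by
      rw [← Subgroup.coe_mul, ← pow_two, ← hz', pow_orderOf_eq_one, OneMemClass.coe_one]
    rcases huniq _ h.1 h.2 (by
      show MulAut.conj g (z' : G) * MulAut.conj g (z' : G) = 1
      rw [← map_mul, hsq, map_one]) with e | e
    · exfalso
      have h1 : (z' : G) = 1 := conj_eq_one_iff.1 e
      rw [← orderOf_coe, h1, orderOf_one] at hz'
      omega
    · exact e
  set N₂ : Subgroup G := (N₁.map D.K.subtype).map (MulAut.conj g).toMonoidHom with hN₂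
  have hN₂odd : Odd (Nat.card N₂) := by
    rwa [hN₂, Nat.card_congr ((N₁.map D.K.subtype).equivMapOfInjective _
      (MulAut.conj g).injective).toEquiv.symm,
      Nat.card_congr (N₁.equivMapOfInjective _ D.K.subtype_injective).toEquiv.symm]
  have hz₂ : ∀ k ∈ D.K, D.z * k * D.z⁻¹ * k⁻¹ ∈ N₂ := by
    intro k hk
    have hk' : g⁻¹ * k * g ∈ D.K := by simpa using Subgroup.Normal.conj_mem (H := D.K) inferInstance k hk g⁻¹
    refine ⟨_, ⟨_, hcom ⟨_, hk'⟩, rfl⟩, ?_⟩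
    show g * ((z' : G) * (g⁻¹ * k * g) * (z' : G)⁻¹ * (g⁻¹ * k * g)⁻¹) * g⁻¹ = _
    rw [← hgz]
    group
  have hk₂ : ∀ k ∈ D.K, ∀ n ∈ N₂, k * n * k⁻¹ ∈ N₂ := by
    rintro k hk _ ⟨_, ⟨n, hn, rfl⟩, rfl⟩
    have hk' : g⁻¹ * k * g ∈ D.K := by simpa using Subgroup.Normal.conj_mem (H := D.K) inferInstance k hk g⁻¹
    refine ⟨_, ⟨_, hN₁.conj_mem n hn ⟨_, hk'⟩, rfl⟩, ?_⟩
    show g * (g⁻¹ * k * g * (n : G) * (g⁻¹ * k * g)⁻¹) * g⁻¹ = k * (g * (n : G) * g⁻¹) * k⁻¹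
    group
  -- an `x`-invariant version
  have hxk : ∀ k ∈ D.K, D.x * k * D.x ∈ D.K := fun k hk => by
    have := Subgroup.Normal.conj_mem (H := D.K) inferInstance k hk D.x
    rwa [D.x_inv] at this
  have hxx : ∀ a : G, D.x * (D.x * a * D.x) * D.x = a := fun a => by
    rw [show D.x * (D.x * a * D.x) * D.x = D.x * D.x * a * (D.x * D.x) by group, D.x_sq, one_mul, mul_one]
  set N₃ : Subgroup G := N₂ ⊓ N₂.comap (MulAut.conj D.x).toMonoidHom with hN₃
  have hmem₃ : ∀ a : G, a ∈ N₃ ↔ a ∈ N₂ ∧ D.x * a * D.x ∈ N₂ := fun a => by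
    show _ ∧ D.x * a * D.x⁻¹ ∈ N₂ ↔ _
    rw [D.x_inv]
    rfl
  have hz₃ : ∀ k ∈ D.K, D.z * k * D.z⁻¹ * k⁻¹ ∈ N₃ := fun k hk => by
    rw [hmem₃]
    refine ⟨hz₂ k hk, ?_⟩
    have := hz₂ _ (hxk k hk)
    have e : D.z * (D.x * k * D.x) * D.z⁻¹ * (D.x * k * D.x)⁻¹ = D.x * (D.z * k * D.z⁻¹ * k⁻¹) * D.x := by
      have hc : D.z * D.x = D.x * D.z := by
        conv_lhs => rw [← D.comm_z]
        rw [mul_assoc _ D.x D.x, D.x_sq, mul_one]
      rw [D.z_inv, mul_inv_rev, mul_inv_rev, D.x_inv,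
        show D.z * (D.x * k * D.x) * D.z * (D.x * (k⁻¹ * D.x)) =
          D.z * D.x * k * D.x * (D.z * D.x) * k⁻¹ * D.x by group, hc,
        show D.x * D.z * k * D.x * (D.x * D.z) * k⁻¹ * D.x =
          D.x * (D.z * k * (D.x * D.x) * D.z * k⁻¹) * D.x by group, D.x_sq, mul_one]
    rwa [e] at this
  have hinv₃ : ∀ o ∈ N₃, D.x * o * D.x⁻¹ ∈ N₃ := fun o ho => by
    rw [D.x_inv, hmem₃, hxx]
    exact ⟨((hmem₃ o).1 ho).2, ((hmem₃ o).1 ho).1⟩
  have hodd₃ : Odd (Nat.card N₃) := hN₂odd.of_dvd_nat (Subgroup.card_dvd_of_le inf_le_left)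
  have hi1 := inverts D.x_sq D.hC N₃ hodd₃ hinv₃
  -- `x z` is conjugate to `x`
  obtain ⟨t, ht⟩ := h8
  have hconj : D.r ^ ((D.N / 4 : ℕ) : ℤ) * D.x * (D.r ^ ((D.N / 4 : ℕ) : ℤ))⁻¹ = D.x * D.z := by
    set k : ℤ := ((D.N / 4 : ℕ) : ℤ) with hk
    have hev : Even k := ⟨(t : ℤ), by omega⟩
    have h1 : D.r ^ k * D.x = D.x * (D.z ^ k * D.r ^ (-k)) := by
      rw [← hxa k, ← mul_assoc D.x, ← mul_assoc D.x, D.x_sq, one_mul]
    obtain ⟨c, hc⟩ := hev
    have hzk : D.z ^ k = 1 := by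
      rw [hc, ← two_mul, zpow_mul, zpow_two, D.z_sq, one_zpow]
    rw [h1, hzk, one_mul, mul_assoc, ← zpow_neg, ← zpow_add]
    congr 1
    rw [show -k + -k = -((D.N / 2 : ℕ) : ℤ) by omega, zpow_neg, zpow_natCast]
    exact D.z_inv
  have hCxz : Nat.card (centralizer ({D.x * D.z} : Set G)) = 4 := by
    rw [← hconj]
    refine Eq.trans ?_ D.hC
    set c := D.r ^ ((D.N / 4 : ℕ) : ℤ)
    refine (Nat.card_congr ((MulAut.conj c).toEquiv.subtypeEquiv fun a => ?_)).symm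
    show a ∈ centralizer ({D.x} : Set G) ↔ c * a * c⁻¹ ∈ centralizer ({c * D.x * c⁻¹} : Set G)
    rw [mem_centralizer_singleton_iff, mem_centralizer_singleton_iff,
      show c * a * c⁻¹ * (c * D.x * c⁻¹) = c * (a * D.x) * c⁻¹ by group,
      show c * D.x * c⁻¹ * (c * a * c⁻¹) = c * (D.x * a) * c⁻¹ by group, mul_left_inj, mul_right_inj]
  have hzN : ∀ o ∈ N₂, D.z * o * D.z ∈ N₂ := fun o ho => by
    simpa [D.z_inv] using hk₂ D.z D.z_memK o ho
  have hzx : ∀ o : G, D.z * (D.x * o * D.x) * D.z = D.x * (D.z * o * D.z) * D.x := fun o => by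
    have hc : D.z * D.x = D.x * D.z := by
      conv_lhs => rw [← D.comm_z]
      rw [mul_assoc _ D.x D.x, D.x_sq, mul_one]
    calc D.z * (D.x * o * D.x) * D.z = D.z * D.x * o * (D.x * D.z) := by group
      _ = D.x * D.z * o * (D.z * D.x) := by rw [hc]
      _ = D.x * (D.z * o * D.z) * D.x := by group
  have hxzsq : D.x * D.z * (D.x * D.z) = 1 := by
    rw [← mul_assoc, D.comm_z, D.z_sq]
  have hinvxz : ∀ o ∈ N₃, D.x * D.z * o * (D.x * D.z)⁻¹ ∈ N₃ := fun o ho => by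
    obtain ⟨h1, h2⟩ := (hmem₃ o).1 ho
    rw [mul_inv_rev, D.x_inv, D.z_inv,
      show D.x * D.z * o * (D.z * D.x) = D.x * (D.z * o * D.z) * D.x by group]
    rw [hmem₃, hxx]
    refine ⟨?_, hzN o h1⟩
    rw [← hzx]
    exact hzN _ h2
  have hi2 := inverts hxzsq hCxz N₃ hodd₃ hinvxz
  have hzc : ∀ o ∈ N₃, D.z * o * D.z⁻¹ = o := by
    intro o ho
    have h1 := hi1 o ho
    have h2 := hi2 o ho
    rw [mul_inv_rev, show D.x * D.z * o * (D.z⁻¹ * D.x⁻¹) = D.x * (D.z * o * D.z⁻¹) * D.x⁻¹ by group,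
      ← h1] at h2
    exact mul_left_cancel (mul_right_cancel h2)
  have hKz : ∀ k ∈ D.K, k * D.z * k⁻¹ = D.z := by
    intro k hk
    set n := D.z * k * D.z⁻¹ * k⁻¹ with hn
    have hn3 : n ∈ N₃ := hz₃ k hk
    have e1 : k * D.z⁻¹ * k⁻¹ = D.z⁻¹ * n := by rw [hn]; group
    have e2 : D.z⁻¹ * n * (D.z⁻¹ * n) = 1 := by
      rw [← e1, show k * D.z⁻¹ * k⁻¹ * (k * D.z⁻¹ * k⁻¹) = k * (D.z * D.z)⁻¹ * k⁻¹ by group, D.z_sq]
      group
    have hn2 : n ^ 2 = 1 := by
      have hc := hzc n hn3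
      rw [pow_two]
      rw [D.z_inv] at e2
      rw [D.z_inv] at hc
      calc n * n = D.z * n * D.z * n := by rw [hc]
        _ = 1 := by rw [mul_assoc _ D.z n]; exact e2
    have h1 : orderOf (⟨n, hn3⟩ : N₃) ∣ 1 := by
      rw [← show Nat.gcd 2 (Nat.card N₃) = 1 from Nat.coprime_two_left.2 hodd₃]
      exact Nat.dvd_gcd (orderOf_dvd_of_pow_eq_one (Subtype.ext hn2)) (orderOf_dvd_natCard _)
    rw [Nat.dvd_one, orderOf_eq_one_iff] at h1
    rw [show n = 1 from congrArg Subtype.val h1, mul_one, D.z_inv] at e1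
    exact e1
  refine ⟨fun a ha g₀ => ?_⟩
  have hfix : g₀ * D.z * g₀⁻¹ = D.z := by
    by_cases hg0 : g₀ ∈ D.K
    · exact hKz g₀ hg0
    · have hmem : g₀ * D.x ∈ D.K := by
        rw [Subgroup.mul_mem_iff_of_index_two D.hKi]; simp [hg0, D.hxK]
      calc g₀ * D.z * g₀⁻¹ = g₀ * (D.x * D.z * D.x) * g₀⁻¹ := by rw [D.comm_z]
        _ = g₀ * D.x * D.z * (g₀ * D.x)⁻¹ := by rw [mul_inv_rev, D.x_inv]; group
        _ = D.z := hKz _ hmem
  obtain ⟨i, rfl⟩ := mem_zpowers_iff.1 ha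
  rw [← MulAut.conj_apply, map_zpow, MulAut.conj_apply, hfix]
  exact zpow_mem (mem_zpowers _) _

end BigData

end Cfsg.FoursCent
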