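import Cfsg.Agent.InvolCalc.FoursCent.Support
import Cfsg.Agent.InvolCalc.FoursCent.Groups
import Cfsg.Agent.InvolCalc.KleinSylow

/-!
The case in which the centraliser is a Sylow 2-subgroup.
-/

set_option autoImplicit false
set_option linter.unusedSectionVars false

namespace Cfsg.FoursCent

open Subgroup Cfsg.Lib.Chars
open scoped ComplexConjugate

universe u

variable {G : Type u} [Group G] [Finite G]

/-- Arithmetic of the four characters. -/
theorem arith_four {x y z n ea eb ec : ℤ}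
    (hxa : ea = 1 ∧ 1 ≤ x ∨ ea = -1 ∧ 3 ≤ x) (hyb : eb = 1 ∧ 1 ≤ y ∨ eb = -1 ∧ 3 ≤ y)
    (hzc : ec = 1 ∧ 1 ≤ z ∨ ec = -1 ∧ 3 ≤ z)
    (hy4 : (4 : ℤ) ∣ y - eb) (hx4 : (4 : ℤ) ∣ x - ea) (hz4 : (4 : ℤ) ∣ z - ec)
    (hn : 1 ≤ n) (hnodd : Odd n) (hbound : 1 + x ^ 2 + y ^ 2 + z ^ 2 ≤ 12 * n)
    (hrel : 1 + ea * x + eb * y + ec * z = 0)
    (hF : 3 * n * (x * y * z + ea * (y * z) + eb * (x * z) + ec * (x * y)) = 8 * (x * y * z)) :
    n = 1 ∨ n = 5 := by
  obtain ⟨t, rfl⟩ := hnodd
  -- one negative sign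
  have one : ∀ x y z : ℤ, 1 ≤ x → 1 ≤ y → 3 ≤ z → z = 1 + x + y →
      3 * (2 * t + 1) * (x * y * z + y * z + x * z - x * y) = 8 * (x * y * z) → t = 0 := by
    intro x y z hx hy hz hr h
    by_contra ht
    have hn3 : 9 ≤ 3 * (2 * t + 1) := by omega
    have hT : 0 < x * y * z := by positivity
    have h1 : x * y ≤ x * z := mul_le_mul_of_nonneg_left (by omega) (by omega)
    have h2 : 0 < y * z := by positivity
    nlinarith [mul_le_mul_of_nonneg_right hn3 (show 0 ≤ x * y * z + y * z + x * z - x * y by linarith)]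
  -- two negative signs
  have two : ∀ x y z : ℤ, 1 ≤ x → 3 ≤ y → 3 ≤ z → (4 : ℤ) ∣ y + 1 → (4 : ℤ) ∣ z + 1 → x = y + z - 1 →
      1 + x ^ 2 + y ^ 2 + z ^ 2 ≤ 12 * (2 * t + 1) →
      3 * (2 * t + 1) * (x * y * z + y * z - x * z - x * y) = 8 * (x * y * z) → t = 0 ∨ t = 2 := by
    intro x y z hx hy hz dy dz hr hb h
    have hy7 : y = 3 ∨ 7 ≤ y := by omega
    have hz7 : z = 3 ∨ 7 ≤ z := by omega
    have hsmall : ∀ z : ℤ, 7 ≤ z →
        3 * (2 * t + 1) * ((z + 2) * 3 * z + 3 * z - (z + 2) * z - (z + 2) * 3) = 8 * ((z + 2) * 3 * z) →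
          False := by
      intro z hz h
      have h' : (2 * t + 1) * ((z + 2) * z - 3) = 4 * ((z + 2) * z) := by linarith
      have hp : 63 ≤ (z + 2) * z := by nlinarith
      rcases le_or_gt (2 * t + 1) 4 with hle | hgt
      · nlinarith [mul_le_mul_of_nonneg_right hle (show 0 ≤ (z + 2) * z - 3 by omega)]
      · nlinarith [mul_le_mul_of_nonneg_right (show 5 ≤ 2 * t + 1 by omega) (show 0 ≤ (z + 2) * z - 3 by omega)]
    rcases hy7 with rfl | hy7 <;> rcases hz7 with rfl | hz7
    · subst hr; right; omega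
    · subst hr
      exact (hsmall z hz7 (by linarith)).elim
    · subst hr
      exact (hsmall y hy7 (by linarith)).elim
    · exfalso
      have h10 : 5 ≤ t := by nlinarith
      have hT : 0 < x * y * z := by positivity
      have h1 : 7 * (x * z) ≤ x * y * z := by
        nlinarith [mul_nonneg (show (0 : ℤ) ≤ x * z by positivity) (show (0 : ℤ) ≤ y - 7 by omega)]
      have h2 : 7 * (x * y) ≤ x * y * z := by
        nlinarith [mul_nonneg (show (0 : ℤ) ≤ x * y by positivity) (show (0 : ℤ) ≤ z - 7 by omega)]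
      have hyz : 0 < y * z := by positivity
      nlinarith [mul_le_mul_of_nonneg_right (show 33 ≤ 3 * (2 * t + 1) by omega)
        (show 0 ≤ x * y * z + y * z - x * z - x * y by linarith)]
  rcases hxa with ⟨rfl, hx⟩ | ⟨rfl, hx⟩ <;> rcases hyb with ⟨rfl, hy⟩ | ⟨rfl, hy⟩ <;>
    rcases hzc with ⟨rfl, hz⟩ | ⟨rfl, hz⟩
  · omega
  · have := one x y z hx hy hz (by omega) (by linarith); omega
  · have := one x z y hx hz hy (by omega) (by linarith); omega
  · have := two x y z hx hy hz (by simpa using hy4) (by simpa using hz4) (by omega) hbound (by linarith)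
    omega
  · have := one z y x hz hy hx (by omega) (by linarith); omega
  · have := two y x z hy hx hz (by simpa using hx4) (by simpa using hz4) (by omega) (by linarith) (by linarith)
    omega
  · have := two z x y hz hx hy (by simpa using hx4) (by simpa using hy4) (by omega) (by linarith) (by linarith)
    omega
  · omega

set_option maxHeartbeats 4000000 in
theorem small_case (x : G) (hx : orderOf x = 2)
    (hC4 : Nat.card (centralizer ({x} : Set G)) = 4)
    (hCe : ∀ c ∈ centralizer ({x} : Set G), c ^ 2 = 1)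
    (S : Sylow 2 G) (hSV : (S : Subgroup G) = centralizer ({x} : Set G))
    (hnc : ¬ Cfsg.HasNormalPComplement 2 G)
    (hne : ∀ E : Subgroup G, E.Normal → Cfsg.IsElementaryAbelian 2 E → Nat.card ↥E ≠ 2 ∧ Nat.card ↥E ≠ 4) :
    Nonempty (G ≃* ↥(alternatingGroup (Fin 5))) := by
  classical
  haveI : Fact (Nat.Prime 2) := ⟨Nat.prime_two⟩
  haveI : Fintype G := Fintype.ofFinite G
  set V := centralizer ({x} : Set G) with hV
  have hxV : x ∈ V := mem_centralizer_singleton_iff.2 rfl
  have hx1 : x ≠ 1 := fun h => by rw [h, orderOf_one] at hx; omega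
  have hxx : x * x = 1 := by rw [← pow_two, ← hx, pow_orderOf_eq_one]
  have hsq : ∀ v ∈ V, v * v = 1 := fun v hv => by rw [← pow_two]; exact hCe v hv
  have hVc : ∀ a ∈ V, ∀ b ∈ V, a * b = b * a := fun a ha b hb => by
    rw [← inv_eq_of_mul_eq_one_right (hsq _ (mul_mem ha hb)), mul_inv_rev,
      inv_eq_of_mul_eq_one_right (hsq _ hb), inv_eq_of_mul_eq_one_right (hsq _ ha)]
  haveI : Nontrivial V := Finite.one_lt_card_iff_nontrivial.1 (by rw [hC4]; norm_num)
  have hK : IsKleinFour V := ⟨hC4, Monoid.exponent_eq_prime_iff (Nat.prime_two) |>.2 (by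
    intro g hg
    exact orderOf_eq_prime (Subtype.ext (hCe g g.2)) hg) ⟩
  have hKS : IsKleinFour (S : Subgroup G) := by rw [hSV]; exact hK
  -- the elements of `V`
  obtain ⟨a, haV, ha1, hax⟩ : ∃ a ∈ V, a ≠ 1 ∧ a ≠ x := by
    by_contra! h
    have hle : V ≤ zpowers x := fun v hv => by
      by_cases h1 : v = 1
      · rw [h1]; exact one_mem _
      · rw [h v hv h1]; exact mem_zpowers x
    have := Subgroup.card_le_of_le hle
    rw [hC4, Nat.card_zpowers, hx] at this
    omega
  have hxa1 : x * a ≠ 1 := fun e => hax (by rw [← inv_eq_of_mul_eq_one_right e, inv_eq_of_mul_eq_one_right hxx])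
  have hxax : x * a ≠ x := fun e => ha1 (mul_eq_left.1 e)
  have hxaa : x * a ≠ a := fun e => hx1 (mul_eq_right.1 e)
  have huniv : (Finset.univ.filter fun g : G => g ∈ V) = {1, x, a, x * a} := by
    symm
    refine Finset.eq_of_subset_of_card_le ?_ ?_
    · intro g hg
      simp only [Finset.mem_insert, Finset.mem_singleton] at hg
      refine Finset.mem_filter.2 ⟨Finset.mem_univ _, ?_⟩
      rcases hg with rfl | rfl | rfl | rfl
      exacts [one_mem _, hxV, haV, mul_mem hxV haV]
    · rw [← Fintype.card_subtype, ← Nat.card_eq_fintype_card,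
        Finset.card_insert_of_notMem (by simp [hx1.symm, ha1.symm, hxa1.symm]),
        Finset.card_insert_of_notMem (by simp [hax.symm, hxax.symm]),
        Finset.card_pair hxaa.symm]
      exact hC4.le
  have hall : ∀ v ∈ V, v = 1 ∨ v = x ∨ v = a ∨ v = x * a := fun v hv => by
    have : v ∈ ({1, x, a, x * a} : Finset G) := huniv ▸ Finset.mem_filter.2 ⟨Finset.mem_univ _, hv⟩
    simpa using this
  -- one class of involutions
  have hNnot : ¬ Subgroup.normalizer ((S : Subgroup G) : Set G) ≤ centralizer ((S : Subgroup G) : Set G) := by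
    intro h
    have hcomp := MonoidHom.ker_transferSylow_isComplement' S h
    exact hnc ⟨S, _, inferInstance, hcomp⟩
  have hone : Nat.card {C : ConjClasses G // ∃ t : G, orderOf t = 2 ∧ ConjClasses.mk t = C} = 1 :=
    ((Cfsg.Lib.KleinSylow.dichotomy S hKS).resolve_left fun h => hNnot h.1).2
  have hconj : ∀ t : G, orderOf t = 2 → IsConj x t := by
    intro t ht
    haveI := (Nat.card_eq_one_iff_unique.1 hone).1
    exact ConjClasses.mk_eq_mk_iff_isConj.1 (congrArg Subtype.val
      (Subsingleton.elim (⟨ConjClasses.mk x, x, hx, rfl⟩ : {C : ConjClasses G // ∃ t : G, orderOf t = 2 ∧ ConjClasses.mk t = C})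
        ⟨ConjClasses.mk t, t, ht, rfl⟩))
  have hord : ∀ v ∈ V, v ≠ 1 → orderOf v = 2 := fun v hv h1 => orderOf_eq_prime (hCe v hv) h1
  -- odd normal subgroups are trivial
  have hodd1 : ∀ O : Subgroup G, O.Normal → Odd (Nat.card O) → O = ⊥ := by
    intro O hO hodd
    rw [Subgroup.eq_bot_iff_forall]
    intro o ho
    have hinv : ∀ v ∈ V, v ≠ 1 → v * o * v⁻¹ = o⁻¹ := by
      intro v hv h1
      obtain ⟨g, hg⟩ := isConj_iff.1 (hconj v (hord v hv h1))
      refine inverts (hsq v hv) ?_ O hodd (fun o ho => hO.conj_mem o ho v) o ho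
      subst hg
      refine Eq.trans ?_ hC4
      refine (Nat.card_congr ((MulAut.conj g).toEquiv.subtypeEquiv fun b => ?_)).symm
      show b ∈ centralizer ({x} : Set G) ↔ g * b * g⁻¹ ∈ centralizer ({g * x * g⁻¹} : Set G)
      rw [mem_centralizer_singleton_iff, mem_centralizer_singleton_iff,
        show g * b * g⁻¹ * (g * x * g⁻¹) = g * (b * x) * g⁻¹ by group,
        show g * x * g⁻¹ * (g * b * g⁻¹) = g * (x * b) * g⁻¹ by group, mul_left_inj, mul_right_inj]
    have h3 := hinv (x * a) (mul_mem hxV haV) hxa1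
    have h1 := hinv x hxV hx1
    have h2 := hinv a haV ha1
    have h4 : o = o⁻¹ := by
      calc o = (x * o * x⁻¹)⁻¹ := by rw [h1, inv_inv]
        _ = x * o⁻¹ * x⁻¹ := by group
        _ = x * (a * o * a⁻¹) * x⁻¹ := by rw [h2]
        _ = x * a * o * (x * a)⁻¹ := by group
        _ = o⁻¹ := h3
    have h5 : orderOf (⟨o, ho⟩ : O) ∣ 1 := by
      rw [← show Nat.gcd 2 (Nat.card O) = 1 from Nat.coprime_two_left.2 hodd]
      refine Nat.dvd_gcd (orderOf_dvd_of_pow_eq_one (Subtype.ext ?_)) (orderOf_dvd_natCard _)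
      show o ^ 2 = 1
      rw [pow_two]
      exact (congrArg (· * o) h4).trans (inv_mul_cancel o)
    rw [Nat.dvd_one, orderOf_eq_one_iff] at h5
    exact congrArg Subtype.val h5
  -- the normalizer
  set N := Subgroup.normalizer (V : Set G) with hN
  have hVN : V ≤ N := le_normalizer
  have hN3 : V.relIndex N = 3 := by
    have hconjN : ∀ v ∈ V, v ≠ 1 → ∃ n ∈ N, n * x * n⁻¹ = v := by
      intro v hv h1
      obtain ⟨g, hg⟩ := isConj_iff.1 (hconj v (hord v hv h1))
      obtain ⟨n, hn, he⟩ := Cfsg.Lib.Transfer.abelian_sylow_fusion S (Cfsg.Lib.KleinSylow.comm_of_klein S hKS)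
        x g (by rw [hSV]; exact hxV) (by rw [hg, hSV]; exact hv)
      refine ⟨n, by rw [hN, ← hSV]; exact hn, ?_⟩
      rw [hg] at he
      exact he.symm
    obtain ⟨na, hna, hea⟩ := hconjN a haV ha1
    obtain ⟨nb, hnb, heb⟩ := hconjN (x * a) (mul_mem hxV haV) hxa1
    let f : N ⧸ V.subgroupOf N → {g : G // g ∈ ({x, a, x * a} : Finset G)} := fun q =>
      Quotient.liftOn q (fun n => ⟨(n : G) * x * (n : G)⁻¹, by
        have hm := (mem_normalizer_iff.1 n.2 x).1 hxV
        rcases hall _ hm with h | h | h | h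
        · exact absurd (conj_eq_one_iff.1 h) hx1
        all_goals rw [h]; simp⟩) (fun n n' h => by
        have h' := QuotientGroup.leftRel_apply.1 h
        rw [mem_subgroupOf, hV, mem_centralizer_singleton_iff] at h'
        refine Subtype.ext ?_
        show (n : G) * x * (n : G)⁻¹ = n' * x * (n' : G)⁻¹
        have h'' : (n : G)⁻¹ * n' * x = x * ((n : G)⁻¹ * n') := h'
        calc (n : G) * x * (n : G)⁻¹ = (n : G) * (x * ((n : G)⁻¹ * n')) * (n' : G)⁻¹ := by group
          _ = n' * x * (n' : G)⁻¹ := by rw [← h'']; group)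
    have hf : Function.Bijective f := by
      constructor
      · intro q q' h
        obtain ⟨n, rfl⟩ := QuotientGroup.mk_surjective q
        obtain ⟨n', rfl⟩ := QuotientGroup.mk_surjective q'
        have h' : (n : G) * x * (n : G)⁻¹ = n' * x * (n' : G)⁻¹ := congrArg Subtype.val h
        rw [QuotientGroup.eq, mem_subgroupOf, hV, mem_centralizer_singleton_iff]
        show (n : G)⁻¹ * n' * x = x * ((n : G)⁻¹ * n')
        calc (n : G)⁻¹ * n' * x = (n : G)⁻¹ * (n' * x * (n' : G)⁻¹) * n' := by group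
          _ = x * ((n : G)⁻¹ * n') := by rw [← h']; group
      · rintro ⟨g, hg⟩
        simp only [Finset.mem_insert, Finset.mem_singleton] at hg
        rcases hg with rfl | rfl | rfl
        · refine ⟨QuotientGroup.mk 1, Subtype.ext ?_⟩
          show ((1 : N) : G) * g * ((1 : N) : G)⁻¹ = g
          simp
        · exact ⟨QuotientGroup.mk ⟨na, hna⟩, Subtype.ext hea⟩
        · exact ⟨QuotientGroup.mk ⟨nb, hnb⟩, Subtype.ext heb⟩
    rw [Subgroup.relIndex, Subgroup.index_eq_card, Nat.card_eq_of_bijective f hf, Nat.card_eq_fintype_card,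
      Fintype.card_coe, Finset.card_insert_of_notMem (by simp [hax.symm, hxax.symm]),
      Finset.card_pair hxaa.symm]
  set n := N.index with hndef
  have hG : Nat.card G = 12 * n := by
    rw [← N.card_mul_index, ← Subgroup.card_mul_index (V.subgroupOf N),
      Nat.card_congr (subgroupOfEquivOfLe hVN).toEquiv, ← Subgroup.relIndex, hN3, hC4]
  have hnodd : Odd n := by
    rw [← Nat.not_even_iff_odd, even_iff_two_dvd]
    intro h
    exact S.not_dvd_index (h.trans (Subgroup.index_dvd_of_le (hSV.le.trans hVN)))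
  -- characters
  obtain ⟨χ₁, χ₂, χ₃, e₁, e₂, e₃, o1, o2, o3, v1, v2, v3, p1, p2, p3, n12, n13, n23, hzero⟩ :=
    support_three hx hC4
  set d₁ := deg (χ₁ : G → ℂ) with hd₁
  set d₂ := deg (χ₂ : G → ℂ) with hd₂
  set d₃ := deg (χ₃ : G → ℂ) with hd₃
  have hcongr : ∀ (χ : Cfsg.IrrCharacter G) (e : ℤ), (χ : G → ℂ) x = (e : ℂ) →
      (4 : ℤ) ∣ (deg (χ : G → ℂ) : ℤ) - e := by
    intro χ e he
    haveI : Fintype V := Fintype.ofFinite V
    obtain ⟨k, hk⟩ := sum_subgroup_dvd χ V
    rw [← Finset.sum_subtype (Finset.univ.filter fun g : G => g ∈ V) (fun g => by simp)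
      (fun g => (χ : G → ℂ) g), huniv, Finset.sum_insert (by simp [hx1.symm, ha1.symm, hxa1.symm]),
      Finset.sum_insert (by simp [hax.symm, hxax.symm]), Finset.sum_pair hxaa.symm,
      ← classFunction_eq_of_isConj (isClassFunction_irr χ) (hconj a (hord a haV ha1)),
      ← classFunction_eq_of_isConj (isClassFunction_irr χ) (hconj _ (hord _ (mul_mem hxV haV) hxa1)),
      he, irr_apply_one_eq_deg, hC4] at hk
    refine ⟨(k : ℤ) - e, Int.cast_injective (α := ℂ) ?_⟩
    push_cast at hk ⊢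
    linear_combination hk
  have hsum : ∀ F : Cfsg.IrrCharacter G → ℂ, (∀ ψ : Cfsg.IrrCharacter G, (ψ : G → ℂ) x = 0 → F ψ = 0) →
      ∑ ψ, F ψ = F (principal G) + (F χ₁ + (F χ₂ + F χ₃)) := by
    intro F hF
    rw [← Finset.sum_subset (Finset.subset_univ ({principal G, χ₁, χ₂, χ₃} : Finset _))
      (fun ψ _ hψ => hF ψ (hzero ψ (by simpa using hψ))), Finset.sum_insert (by simp [p1, p2, p3]),
      Finset.sum_insert (by simp [n12, n13]), Finset.sum_pair n23]
  have hrel : (1 : ℤ) + e₁ * d₁ + e₂ * d₂ + e₃ * d₃ = 0 := by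
    have h := second_orthogonality x (1 : G)
    rw [if_neg (fun h => hx1 (isConj_one_left.1 h)), hsum _ (fun ψ h => by rw [h, zero_mul]), v1, v2, v3] at h
    simp only [irr_apply_one_eq_deg, map_natCast, ← hd₁, ← hd₂, ← hd₃] at h
    rw [show deg ((principal G : Cfsg.IrrCharacter G) : G → ℂ) = 1 by simp [deg, principal]] at h
    simp only [principal, one_mul, Nat.cast_one] at h
    apply Int.cast_injective (α := ℂ)
    push_cast
    linear_combination h
  have hpairs : Nat.card {p : G × G // IsConj x p.1 ∧ IsConj x p.2 ∧ p.1 * p.2 = x} = 2 := by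
    have hxI : ∀ y : G, IsConj x y → y * y = 1 ∧ y ≠ 1 := by
      intro y hy
      obtain ⟨g, rfl⟩ := isConj_iff.1 hy
      refine ⟨?_, fun h => hx1 (conj_eq_one_iff.1 h)⟩
      rw [show g * x * g⁻¹ * (g * x * g⁻¹) = g * (x * x) * g⁻¹ by group, hxx]
      group
    have hmem : ∀ p : G × G, (IsConj x p.1 ∧ IsConj x p.2 ∧ p.1 * p.2 = x) ↔
        p ∈ ({(a, x * a), (x * a, a)} : Finset (G × G)) := by
      intro p
      constructor
      · rintro ⟨h1, h2, h3⟩
        obtain ⟨s1, t1⟩ := hxI _ h1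
        obtain ⟨s2, t2⟩ := hxI _ h2
        have e2 : p.2 = p.1 * x := by rw [← h3, ← mul_assoc, s1, one_mul]
        have hm : p.1 ∈ V := by
          rw [hV, mem_centralizer_singleton_iff]
          rw [e2] at s2
          calc p.1 * x = (p.1 * x)⁻¹ := (inv_eq_of_mul_eq_one_right s2).symm
            _ = x * p.1 := by rw [mul_inv_rev, inv_eq_of_mul_eq_one_right hxx, inv_eq_of_mul_eq_one_right s1]
        have hax' : a * x = x * a := hVc a haV x hxV
        rcases hall _ hm with h | h | h | h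
        · exact absurd h t1
        · rw [h, hxx] at e2; exact absurd e2 t2
        · refine Finset.mem_insert.2 (Or.inl (Prod.ext h ?_))
          rw [e2, h, hax']
        · refine Finset.mem_insert_of_mem (Finset.mem_singleton.2 (Prod.ext h ?_))
          rw [e2, h, mul_assoc, hax', ← mul_assoc, hxx, one_mul]
      · intro hp
        simp only [Finset.mem_insert, Finset.mem_singleton] at hp
        have ia := hconj a (hord a haV ha1)
        have ib := hconj _ (hord _ (mul_mem hxV haV) hxa1)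
        rcases hp with rfl | rfl
        · refine ⟨ia, ib, ?_⟩
          show a * (x * a) = x
          rw [← mul_assoc, hVc a haV x hxV, mul_assoc, hsq a haV, mul_one]
        · exact ⟨ib, ia, by show x * a * a = x; rw [mul_assoc, hsq a haV, mul_one]⟩
    rw [Nat.card_congr (Equiv.subtypeEquivRight hmem), Nat.card_eq_fintype_card, Fintype.card_coe,
      Finset.card_pair (fun e => hxaa (congrArg Prod.fst e).symm)]
  have hd1pos : (d₁ : ℂ) ≠ 0 := Nat.cast_ne_zero.2 (deg_irr_pos χ₁).ne'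
  have hd2pos : (d₂ : ℂ) ≠ 0 := Nat.cast_ne_zero.2 (deg_irr_pos χ₂).ne'
  have hd3pos : (d₃ : ℂ) ≠ 0 := Nat.cast_ne_zero.2 (deg_irr_pos χ₃).ne'
  have hF : 3 * (n : ℤ) * (d₁ * d₂ * d₃ + e₁ * (d₂ * d₃) + e₂ * (d₁ * d₃) + e₃ * (d₁ * d₂)) =
      8 * (d₁ * d₂ * d₃) := by
    have h := pairs_formula hC4 x
    rw [hpairs, hG, hsum _ (fun ψ h => by rw [h]; simp), v1, v2, v3] at h
    simp only [irr_apply_one_eq_deg, map_intCast, ← hd₁, ← hd₂, ← hd₃] at h
    have hp0 : (deg ((principal G : Cfsg.IrrCharacter G) : G → ℂ) : ℂ) = 1 := by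
      rw [← irr_apply_one_eq_deg]; rfl
    rw [hp0, show ((principal G : Cfsg.IrrCharacter G) : G → ℂ) x = 1 from rfl] at h
    have s1 : (e₁ : ℂ) * e₁ = 1 := by rcases o1 with rfl | rfl <;> norm_num
    have s2 : (e₂ : ℂ) * e₂ = 1 := by rcases o2 with rfl | rfl <;> norm_num
    have s3 : (e₃ : ℂ) * e₃ = 1 := by rcases o3 with rfl | rfl <;> norm_num
    rw [s1, s2, s3] at h
    simp only [one_mul, map_one, div_one] at h
    push_cast at h
    field_simp at h
    apply Int.cast_injective (α := ℂ)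
    push_cast
    linear_combination (-1/4 : ℂ) * h
  have hbound : (1 : ℤ) + (d₁ : ℤ) ^ 2 + (d₂ : ℤ) ^ 2 + (d₃ : ℤ) ^ 2 ≤ 12 * n := by
    have h := sum_deg_sq_nat (G := G)
    have hle : ∑ ψ ∈ ({principal G, χ₁, χ₂, χ₃} : Finset _), deg (ψ : G → ℂ) ^ 2 ≤
        ∑ ψ : Cfsg.IrrCharacter G, deg (ψ : G → ℂ) ^ 2 :=
      Finset.sum_le_sum_of_subset_of_nonneg (Finset.subset_univ _) fun _ _ _ => Nat.zero_le _
    rw [h, hG, Finset.sum_insert (by simp [p1, p2, p3]),
      Finset.sum_insert (by simp [n12, n13]), Finset.sum_pair n23] at hle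
    have hp0 : deg ((principal G : Cfsg.IrrCharacter G) : G → ℂ) = 1 := by simp [deg, principal]
    rw [hp0] at hle
    zify at hle
    linarith
  have hcase : ∀ (χ : Cfsg.IrrCharacter G) (e : ℤ), (e = 1 ∨ e = -1) → (χ : G → ℂ) x = (e : ℂ) →
      (e = 1 ∧ (1 : ℤ) ≤ (deg (χ : G → ℂ) : ℤ)) ∨ (e = -1 ∧ (3 : ℤ) ≤ (deg (χ : G → ℂ) : ℤ)) := by
    intro χ e he hv
    have h4 := hcongr χ e hv
    have hpos := deg_irr_pos χ
    rcases he with rfl | rfl
    · exact Or.inl ⟨rfl, by omega⟩
    · exact Or.inr ⟨rfl, by omega⟩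
  rcases arith_four (n := (n : ℤ)) (hcase _ _ o1 v1) (hcase _ _ o2 v2) (hcase _ _ o3 v3) (hcongr _ _ v2)
    (hcongr _ _ v1) (hcongr _ _ v3) (by exact_mod_cast hnodd.pos) (by exact_mod_cast hnodd) hbound hrel hF
    with hn | hn
  · exfalso
    have hn' : n = 1 := by exact_mod_cast hn
    have hVn : V.Normal := Subgroup.normalizer_eq_top_iff.1 (Subgroup.index_eq_one.1 hn')
    exact (hne V hVn ⟨⟨⟨fun u v => Subtype.ext (hVc u u.2 v v.2)⟩⟩, hCe⟩).2 hC4
  · have hn' : n = 5 := by exact_mod_cast hn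
    have h60 : Nat.card G = 60 := by rw [hG, hn']
    refine Cfsg.Lib.Classical.SixtyGroup.iso_alt_five
      (Cfsg.Lib.Classical.SixtyGroup.simple_of_sixty h60 fun M hM hc => ?_) h60
    simp only [Finset.mem_insert, Finset.mem_singleton] at hc
    rcases hc with hc | hc | hc | hc
    · refine (hne M hM ⟨⟨⟨fun u v => ?_⟩⟩, fun m hm => ?_⟩).1 hc
      · haveI : IsCyclic M := isCyclic_of_prime_card hc
        exact (IsCyclic.commutative (α := M)).is_comm.comm u v
      · have := pow_card_eq_one' (x := (⟨m, hm⟩ : M))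
        rw [hc] at this
        exact congrArg Subtype.val this
    · have := hodd1 M hM (by rw [hc]; decide)
      rw [this, Subgroup.card_bot] at hc; omega
    · obtain ⟨T, hT⟩ := (IsPGroup.of_card (n := 2) (show Nat.card M = 2 ^ 2 by rw [hc]; norm_num)).exists_le_sylow
      obtain ⟨g, hg⟩ := MulAction.exists_smul_eq G T S
      have hMV : M ≤ V := fun m hm => by
        rw [← hSV, ← hg, Sylow.coe_subgroup_smul]
        refine ⟨g⁻¹ * m * g, hT (by simpa using hM.conj_mem m hm g⁻¹), ?_⟩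
        show g * (g⁻¹ * m * g) * g⁻¹ = m
        group
      have hMeq : M = V := Subgroup.eq_of_le_of_card_ge hMV (by rw [hc, hC4])
      exact (hne M hM ⟨⟨⟨fun u v => Subtype.ext (hVc u (hMV u.2) v (hMV v.2))⟩⟩,
        fun m hm => hCe m (hMV hm)⟩).2 hc
    · have := hodd1 M hM (by rw [hc]; decide)
      rw [this, Subgroup.card_bot] at hc; omega

end Cfsg.FoursCent
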