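import Cfsg.Agent.Transfer.ThompsonTransfer
import Mathlib.GroupTheory.Transfer
import Mathlib.GroupTheory.SpecificGroups.Cyclic

/-!
A criterion for a normal subgroup of odd order and 2-power index.
-/

set_option autoImplicit false
set_option linter.unusedSectionVars false

namespace Cfsg.FoursCent

open Subgroup

universe u

variable {G : Type u} [Group G] [Finite G]

/-- A normal subgroup `K` with cyclic Sylow 2-subgroups in which every element has a 2-power modulo
gives an odd normal subgroup of 2-power index. -/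
theorem odd_normal_of_cyclic (K : Subgroup G) [K.Normal] (hidx : ∃ k : ℕ, K.index = 2 ^ k)
    (hcyc : ∀ R : Subgroup G, IsPGroup 2 R → R ≤ K → IsCyclic R) :
    ∃ O : Subgroup G, O.Normal ∧ Odd (Nat.card O) ∧ (∃ k : ℕ, O.index = 2 ^ k) ∧ O ≤ K := by
  classical
  haveI : Fact (Nat.Prime 2) := ⟨Nat.prime_two⟩
  obtain ⟨P⟩ : Nonempty (Sylow 2 K) := inferInstance
  haveI : IsCyclic (P : Subgroup K) := by
    haveI := hcyc ((P : Subgroup K).map K.subtype) (P.isPGroup'.map _) (Subgroup.map_subtype_le _)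
    exact isCyclic_of_surjective _ ((P : Subgroup K).equivMapOfInjective K.subtype K.subtype_injective).symm.surjective
  have hPle : normalizer ((P : Subgroup K) : Set K) ≤ centralizer ((P : Subgroup K) : Set K) := by
    rcases (Nat.card K).eq_zero_or_pos with h | h
    · exact absurd h Nat.card_pos.ne'
    · by_cases h2 : 2 ∣ Nat.card K
      · exact IsCyclic.normalizer_le_centralizer ((Nat.minFac_eq_two_iff _).2 h2) inferInstance
      · intro g _
        rw [mem_centralizer_iff]
        intro p hp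
        have hbot : Nat.card (P : Subgroup K) = 1 := by
          rw [Sylow.card_eq_multiplicity, Nat.factorization_eq_zero_of_not_dvd h2, pow_zero]
        rw [Subgroup.card_eq_one.1 hbot] at hp
        rw [mem_bot.1 hp, one_mul, mul_one]
  set N := (MonoidHom.transferSylow P hPle).ker with hN
  have hcomp := MonoidHom.ker_transferSylow_isComplement' P hPle
  have hNodd : Odd (Nat.card N) := by
    rw [← Nat.not_even_iff_odd, even_iff_two_dvd]
    exact MonoidHom.not_dvd_card_ker_transferSylow P hPle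
  have hNpow : ∀ k : K, ∃ i : ℕ, k ^ 2 ^ i ∈ N := by
    intro k
    obtain ⟨i, hi⟩ := P.isPGroup' (MonoidHom.transferSylow P hPle k)
    exact ⟨i, by rw [hN, MonoidHom.mem_ker, map_pow, hi]⟩
  -- the elements of odd order of `K`
  have hmem : ∀ k : K, k ∈ N ↔ Odd (orderOf k) := by
    intro k
    constructor
    · intro hk
      refine hNodd.of_dvd_nat ?_
      simpa using orderOf_dvd_natCard (⟨k, hk⟩ : N)
    · intro hk
      obtain ⟨i, hi⟩ := hNpow k
      have hco : Nat.Coprime (orderOf k) (2 ^ i) := Nat.Coprime.pow_right i (Nat.coprime_two_right.2 hk)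
      obtain ⟨m, hm⟩ := exists_pow_eq_self_of_coprime hco.symm
      rw [← hm]
      exact pow_mem hi _
  refine ⟨N.map K.subtype, ⟨?_⟩, ?_, ?_, Subgroup.map_subtype_le _⟩
  · rintro _ ⟨k, hk, rfl⟩ g
    refine ⟨⟨g * k * g⁻¹, Normal.conj_mem inferInstance _ k.2 g⟩, ?_, rfl⟩
    refine (hmem _).2 ?_
    rw [← orderOf_coe]
    show Odd (orderOf (g * (k : G) * g⁻¹))
    rw [← MulAut.conj_apply, MulEquiv.orderOf_eq, orderOf_coe]
    exact (hmem _).1 hk
  · rwa [Nat.card_congr (N.equivMapOfInjective _ K.subtype_injective).toEquiv.symm]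
  · obtain ⟨k, hk⟩ := hidx
    obtain ⟨i, hi⟩ := IsPGroup.iff_card.1 P.isPGroup'
    refine ⟨i + k, ?_⟩
    rw [Subgroup.index_map_subtype, hk, pow_add, hcomp.symm.index_eq_card, hi]

/-- If an involution `u` of `K ∩ S` outside the cyclic subgroup `Q` of index two is not conjugate
into `Q`, and the others outside `Q` are conjugate to it in `G`, then `G` has an odd normal
subgroup of 2-power index. -/
theorem odd_normal_of_no_fusion (S : Sylow 2 G) (K : Subgroup G) [K.Normal] (hK : K.index = 2)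
    (Q : Subgroup G) (hQ : IsCyclic Q) (hQK : Q ≤ K) (hQS : Q ≤ (S : Subgroup G))
    (hQi : Q.relIndex ((S : Subgroup G) ⊓ K) = 2) (u : G) (hu : orderOf u = 2) (huK : u ∈ K)
    (hfix : ∀ g : G, g * u * g⁻¹ ∉ Q)
    (hconj : ∀ v ∈ (S : Subgroup G) ⊓ K, v ∉ Q → IsConj u v) :
    ∃ O : Subgroup G, O.Normal ∧ Odd (Nat.card O) ∧ (∃ k : ℕ, O.index = 2 ^ k) ∧ O ≤ K := by
  classical
  haveI : Fact (Nat.Prime 2) := ⟨Nat.prime_two⟩
  -- an index two subgroup of `K` avoiding `u`
  obtain ⟨m, hm, hQm⟩ : ∃ m, Odd m ∧ (Q.subgroupOf K).index = 2 * m := by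
    refine ⟨((S : Subgroup G) ⊓ K).relIndex K, ?_, ?_⟩
    · rw [← Nat.not_even_iff_odd, even_iff_two_dvd]
      intro h
      apply S.not_dvd_index
      have h1 : ((S : Subgroup G) ⊓ K).relIndex (S : Subgroup G) ∣ 2 := by
        rw [Subgroup.inf_relIndex_left]
        have h0 := Subgroup.relIndex_dvd_index_of_normal K (K := (S : Subgroup G))
        exact h0.trans (dvd_of_eq hK)
      have h2 : ((S : Subgroup G) ⊓ K).index =
          ((S : Subgroup G) ⊓ K).relIndex (S : Subgroup G) * (S : Subgroup G).index :=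
        (Subgroup.relIndex_mul_index inf_le_left).symm
      rw [← Subgroup.relIndex_mul_index (inf_le_right : (S : Subgroup G) ⊓ K ≤ K), hK] at h2
      obtain ⟨t, ht⟩ := h
      rw [ht] at h2
      rcases (Nat.dvd_prime Nat.prime_two).1 h1 with e | e <;> rw [e] at h2
      · exact ⟨2 * t, by omega⟩
      · exact ⟨t, by omega⟩
    · show Q.relIndex K = _
      rw [← Subgroup.relIndex_mul_relIndex Q ((S : Subgroup G) ⊓ K) K (le_inf hQS hQK) inf_le_right,
        hQi]
  obtain ⟨K₁, hK₁n, hK₁i, huK₁⟩ := Cfsg.Lib.Transfer.exists_index_two_not_mem (G := K)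
    (Q.subgroupOf K) hm hQm (u := ⟨u, huK⟩) (by rw [← orderOf_coe]; exact hu) (by
      intro g hg
      rw [mem_subgroupOf] at hg
      exact hfix (g : G)⁻¹ (by simpa using hg))
  set K₂ := (K₁.map K.subtype).normalCore with hK₂
  have hK₂K : K₂ ≤ K := (Subgroup.normalCore_le _).trans (Subgroup.map_subtype_le _)
  have hsq : ∀ k ∈ K, k * k ∈ K₂ := by
    intro k hk
    show ∀ b : G, b * (k * k) * b⁻¹ ∈ K₁.map K.subtype
    intro b
    have hb : b * k * b⁻¹ ∈ K := Normal.conj_mem inferInstance k hk b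
    refine ⟨⟨_, hb⟩ * ⟨_, hb⟩, Subgroup.mul_self_mem_of_index_two hK₁i _, ?_⟩
    show b * k * b⁻¹ * (b * k * b⁻¹) = _
    group
  have hidx : ∃ k : ℕ, K₂.index = 2 ^ k := by
    haveI : K₂.Normal := Subgroup.normalCore_normal _
    have hp : IsPGroup 2 (G ⧸ K₂) := by
      intro q
      obtain ⟨g, rfl⟩ := QuotientGroup.mk_surjective q
      refine ⟨2, ?_⟩
      rw [← QuotientGroup.mk_pow, QuotientGroup.eq_one_iff]
      have h := hsq (g * g) (Subgroup.mul_self_mem_of_index_two hK g)
      rwa [show g ^ 2 ^ 2 = g * g * (g * g) by simp [pow_succ, mul_assoc]]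
    exact IsPGroup.iff_card.1 hp
  have huK₂ : u ∉ K₂ := fun h => by
    obtain ⟨k, hk, he⟩ := Subgroup.normalCore_le _ h
    exact huK₁ (by rwa [show (⟨u, huK⟩ : K) = k from Subtype.ext he.symm])
  haveI : K₂.Normal := Subgroup.normalCore_normal _
  refine (odd_normal_of_cyclic K₂ hidx fun R hR hRK => ?_).imp fun O hO =>
    ⟨hO.1, hO.2.1, hO.2.2.1, hO.2.2.2.trans hK₂K⟩
  obtain ⟨T, hT⟩ := hR.exists_le_sylow
  obtain ⟨g, hg⟩ := MulAction.exists_smul_eq G T S
  have hle : R.map (MulAut.conj g).toMonoidHom ≤ Q := by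
    rintro _ ⟨r, hr, rfl⟩
    have hrS : g * r * g⁻¹ ∈ (S : Subgroup G) := by
      rw [← hg, Sylow.coe_subgroup_smul]
      exact ⟨r, hT hr, rfl⟩
    have hrK : g * r * g⁻¹ ∈ K₂ := (Subgroup.normalCore_normal _).conj_mem r (hRK hr) g
    show g * r * g⁻¹ ∈ Q
    by_contra hrQ
    obtain ⟨c, hc⟩ := isConj_iff.1 (hconj _ ⟨hrS, hK₂K hrK⟩ hrQ).symm
    exact huK₂ (hc ▸ (Subgroup.normalCore_normal _).conj_mem _ hrK c)
  haveI := hQ
  haveI : IsCyclic (R.map (MulAut.conj g).toMonoidHom) :=
    isCyclic_of_injective _ (Subgroup.inclusion_injective hle)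
  exact isCyclic_of_surjective _
    (R.equivMapOfInjective (MulAut.conj g).toMonoidHom (MulAut.conj g).injective).symm.surjective

end Cfsg.FoursCent
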