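import Cfsg.Agent.InvolCalc.FoursCent.Chars

/-!
The irreducible characters not vanishing at an involution with centraliser of order four.
-/

set_option autoImplicit false
set_option linter.unusedSectionVars false

namespace Cfsg.FoursCent

open Subgroup Cfsg.Lib.Chars
open scoped ComplexConjugate

universe u

variable {G : Type u} [Group G] [Finite G]

open scoped Classical in
/-- With a linear character negative at `x`, the support of the column of `x` is
`1, f, χ, fχ`. -/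
theorem support_linear {x : G} (hx : orderOf x = 2)
    (hC : Nat.card (centralizer ({x} : Set G)) = 4) (f : G →* ℂˣ) (hfx : (f x : ℂ) = -1)
    (hfsq : ∀ g, (f g : ℂ) * (f g : ℂ) = 1) :
    ∃ l χ χ' : Cfsg.IrrCharacter G, (∀ g, (l : G → ℂ) g = (f g : ℂ)) ∧
      (∀ g, (χ' : G → ℂ) g = (f g : ℂ) * (χ : G → ℂ) g) ∧
      (χ : G → ℂ) x * (χ : G → ℂ) x = 1 ∧
      principal G ≠ l ∧ principal G ≠ χ ∧ principal G ≠ χ' ∧ l ≠ χ ∧ l ≠ χ' ∧ χ ≠ χ' ∧
      ∀ ψ : Cfsg.IrrCharacter G, ψ ∉ ({principal G, l, χ, χ'} : Finset _) → (ψ : G → ℂ) x = 0 := by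
  choose a ha using fun χ : Cfsg.IrrCharacter G => exists_int χ hx
  have hsum := column_sq hx hC a ha
  set l : Cfsg.IrrCharacter G := ⟨fun g => (f g : ℂ), isIrrCharacter_linear f⟩ with hl
  have hp : a (principal G) = 1 := Int.cast_injective (α := ℂ) (by rw [← ha]; simp [principal])
  have hla : a l = -1 := Int.cast_injective (α := ℂ) (by rw [← ha]; simp [hl, hfx])
  have hne : principal G ≠ l := fun h => by rw [← h, hp] at hla; omega
  obtain ⟨χ, hχ⟩ : ∃ χ, χ ≠ principal G ∧ χ ≠ l ∧ a χ ≠ 0 := by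
    by_contra! h
    have h2 : ∑ ψ : Cfsg.IrrCharacter G, a ψ ^ 2 =
        ∑ ψ ∈ ({principal G, l} : Finset _), a ψ ^ 2 := by
      symm
      refine Finset.sum_subset (Finset.subset_univ _) fun ψ _ hψ => ?_
      simp only [Finset.mem_insert, Finset.mem_singleton, not_or] at hψ
      rw [h ψ hψ.1 hψ.2]
      norm_num
    rw [h2, Finset.sum_pair hne, hp, hla] at hsum
    norm_num at hsum
  set χ' : Cfsg.IrrCharacter G :=
    ⟨fun g => (f g : ℂ) * (χ : G → ℂ) g, IsIrrCharacter.mul_linear χ.2 f⟩ with hχ'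
  have ha' : a χ' = -a χ := Int.cast_injective (α := ℂ) (by
    rw [← ha, Int.cast_neg, ← ha]; simp [hχ', hfx])
  have hne' : χ ≠ χ' := fun h => hχ.2.2 (by rw [← h] at ha'; omega)
  have htw : ∀ g, (f g : ℂ) * (χ' : G → ℂ) g = (χ : G → ℂ) g := fun g => by
    show (f g : ℂ) * ((f g : ℂ) * (χ : G → ℂ) g) = _
    rw [← mul_assoc, hfsq, one_mul]
  have hp' : principal G ≠ χ' := fun h => hχ.2.1 (Subtype.ext (funext fun g => by
    rw [← htw g, ← h]; simp [principal, hl]))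
  have hl' : l ≠ χ' := fun h => hχ.1 (Subtype.ext (funext fun g => by
    rw [← htw g, ← h]; exact hfsq g))
  have hfour : ∑ ψ ∈ ({principal G, l, χ, χ'} : Finset _), a ψ ^ 2 = 2 + 2 * a χ ^ 2 := by
    rw [Finset.sum_insert (by simp [hne, hχ.1.symm, hp']),
      Finset.sum_insert (by simp [hχ.2.1.symm, hl']), Finset.sum_pair hne', hp, hla, ha']
    ring
  have hle := Finset.sum_le_sum_of_subset_of_nonneg
    (Finset.subset_univ ({principal G, l, χ, χ'} : Finset _))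
    (f := fun ψ => a ψ ^ 2) fun _ _ _ => sq_nonneg _
  rw [hfour, hsum] at hle
  have hone : a χ ^ 2 = 1 := by
    have : 0 < a χ ^ 2 := pow_two_pos_of_ne_zero hχ.2.2
    omega
  refine ⟨l, χ, χ', fun g => rfl, fun g => rfl, ?_, hne, hχ.1.symm, hp', hχ.2.1.symm, hl', hne', ?_⟩
  · rw [ha, ← Int.cast_mul, ← sq, hone, Int.cast_one]
  · intro ψ hψ
    have hle' := Finset.sum_le_sum_of_subset_of_nonneg
      (Finset.subset_univ (insert ψ ({principal G, l, χ, χ'} : Finset _)))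
      (f := fun ψ => a ψ ^ 2) fun _ _ _ => sq_nonneg _
    rw [Finset.sum_insert hψ, hfour, hsum, hone] at hle'
    have h0 : a ψ ^ 2 = 0 := le_antisymm (by omega) (sq_nonneg _)
    rw [ha, (pow_eq_zero_iff two_ne_zero).1 h0, Int.cast_zero]

open scoped Classical in
/-- Without further hypotheses: the principal character and three others, with values `±1`. -/
theorem support_three {x : G} (hx : orderOf x = 2)
    (hC : Nat.card (centralizer ({x} : Set G)) = 4)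
    :
    ∃ (χ₁ χ₂ χ₃ : Cfsg.IrrCharacter G) (e₁ e₂ e₃ : ℤ),
      (e₁ = 1 ∨ e₁ = -1) ∧ (e₂ = 1 ∨ e₂ = -1) ∧ (e₃ = 1 ∨ e₃ = -1) ∧
      (χ₁ : G → ℂ) x = e₁ ∧ (χ₂ : G → ℂ) x = e₂ ∧ (χ₃ : G → ℂ) x = e₃ ∧
      principal G ≠ χ₁ ∧ principal G ≠ χ₂ ∧ principal G ≠ χ₃ ∧ χ₁ ≠ χ₂ ∧ χ₁ ≠ χ₃ ∧ χ₂ ≠ χ₃ ∧
      ∀ ψ : Cfsg.IrrCharacter G, ψ ∉ ({principal G, χ₁, χ₂, χ₃} : Finset _) →
        (ψ : G → ℂ) x = 0 := by
  choose a ha using fun χ : Cfsg.IrrCharacter G => exists_int χ hx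
  have hsum := column_sq hx hC a ha
  have hp : a (principal G) = 1 := Int.cast_injective (α := ℂ) (by rw [← ha]; simp [principal])
  rw [← Finset.add_sum_erase _ _ (Finset.mem_univ (principal G)), hp] at hsum
  set B := (Finset.univ.erase (principal G)).filter fun χ => a χ ≠ 0 with hB
  have hB2 : ∑ χ ∈ B, a χ ^ 2 = 3 := by
    rw [hB, Finset.sum_filter]
    rw [Finset.sum_congr rfl fun χ _ => show (if a χ ≠ 0 then a χ ^ 2 else 0) = a χ ^ 2 by
      by_cases h : a χ = 0 <;> simp [h]]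
    omega
  have hone : ∀ χ ∈ B, a χ ^ 2 = 1 := by
    intro χ hχ
    have hle := Finset.single_le_sum (f := fun χ => a χ ^ 2) (fun _ _ => sq_nonneg _) hχ
    rw [hB2] at hle
    have h0 := (Finset.mem_filter.1 hχ).2
    have h1 : a χ ≤ 1 := by nlinarith
    have h2 : -1 ≤ a χ := by nlinarith
    rcases (show a χ = 1 ∨ a χ = -1 by omega) with e | e <;> simp [e]
  have hcard : B.card = 3 := by
    rw [Finset.sum_congr rfl hone, Finset.sum_const, nsmul_eq_mul, mul_one] at hB2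
    exact_mod_cast hB2
  obtain ⟨χ₁, χ₂, χ₃, h12, h13, h23, hT⟩ := Finset.card_eq_three.1 hcard
  have hmem : ∀ χ ∈ B, (a χ = 1 ∨ a χ = -1) ∧ principal G ≠ χ := fun χ hχ =>
    ⟨sq_eq_one_iff.1 (hone χ hχ), (Finset.ne_of_mem_erase (Finset.mem_filter.1 hχ).1).symm⟩
  have m1 := hmem χ₁ (by rw [hT]; simp)
  have m2 := hmem χ₂ (by rw [hT]; simp)
  have m3 := hmem χ₃ (by rw [hT]; simp)
  refine ⟨χ₁, χ₂, χ₃, a χ₁, a χ₂, a χ₃, m1.1, m2.1, m3.1, ha _, ha _, ha _, m1.2, m2.2, m3.2,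
    h12, h13, h23, fun ψ hψ => ?_⟩
  simp only [Finset.mem_insert, Finset.mem_singleton, not_or] at hψ
  by_contra h
  have : ψ ∈ B := Finset.mem_filter.2 ⟨Finset.mem_erase.2 ⟨hψ.1, Finset.mem_univ _⟩, fun e => h (by rw [ha, e, Int.cast_zero])⟩
  rw [hT] at this
  simp [hψ.2.1, hψ.2.2.1, hψ.2.2.2] at this

end Cfsg.FoursCent
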