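import Cfsg.Agent.InvolCalc.FoursCent.Groups
import Cfsg.Agent.InvolCalc.FoursCent.Support

/-!
The dihedral case.
-/

set_option autoImplicit false
set_option linter.unusedSectionVars false

namespace Cfsg.FoursCent

open Subgroup Cfsg.Lib.Chars
open scoped ComplexConjugate

universe u

variable {G : Type u} [Group G] [Finite G]

namespace BigData

variable (D : BigData G)

section dihedral

variable (hw : D.r * (D.x * D.r * D.x) = 1)
include hw

theorem conj_r (i : ℤ) : D.x * D.r ^ i * D.x = D.r ^ (-i) := by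
  rw [D.conj_zpow, ← eq_inv_of_mul_eq_one_right hw |>.symm, inv_zpow, zpow_neg]

theorem refl_sq (i : ℤ) : D.x * D.r ^ i * (D.x * D.r ^ i) = 1 := by
  rw [← mul_assoc, D.conj_r hw, ← zpow_add, neg_add_cancel, zpow_zero]

theorem refl_conj (i k : ℤ) :
    D.r ^ k * (D.x * D.r ^ i) * (D.r ^ k)⁻¹ = D.x * D.r ^ (i - 2 * k) := by
  have h : D.r ^ k * D.x = D.x * D.r ^ (-k) := by
    rw [← D.conj_r hw k, ← mul_assoc D.x, ← mul_assoc D.x, D.x_sq, one_mul]
  rw [← mul_assoc, h, ← zpow_neg, mul_assoc, mul_assoc, ← zpow_add, ← zpow_add]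
  congr 2
  ring

/-- The reflections in `K` are conjugate under `r`. -/
theorem odd_conj {i : ℤ} (hi : ¬ Even i) :
    ∃ c ∈ zpowers D.r, c * (D.x * D.r) * c⁻¹ = D.x * D.r ^ i := by
  obtain ⟨c, rfl⟩ := Int.not_even_iff_odd.1 hi
  refine ⟨D.r ^ (-c), zpow_mem (mem_zpowers _) _, ?_⟩
  conv_lhs => arg 1; arg 2; arg 2; rw [← zpow_one D.r]
  rw [D.refl_conj hw]
  congr 2
  ring

theorem even_conj {i : ℤ} (hi : Even i) : IsConj D.x (D.x * D.r ^ i) := by
  obtain ⟨c, rfl⟩ := hi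
  refine isConj_iff.2 ⟨D.r ^ (-c), ?_⟩
  conv_lhs => arg 1; arg 2; rw [← mul_one D.x, ← zpow_zero D.r]
  rw [D.refl_conj hw]
  congr 2
  ring

theorem xr_ne_one (i : ℤ) : D.x * D.r ^ i ≠ 1 := fun h => D.hxr (by
  rw [eq_inv_of_mul_eq_one_left h]
  exact inv_mem (zpow_mem (mem_zpowers _) _))

theorem xr_ne_z (i : ℤ) : D.x * D.r ^ i ≠ D.z := fun h => D.hxr (by
  rw [eq_mul_inv_of_mul_eq h]
  exact mul_mem D.z_mem (inv_mem (zpow_mem (mem_zpowers _) _)))

theorem order_refl (i : ℤ) : orderOf (D.x * D.r ^ i) = 2 :=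
  haveI : Fact (Nat.Prime 2) := ⟨Nat.prime_two⟩
  orderOf_eq_prime (by rw [pow_two]; exact D.refl_sq hw i) (D.xr_ne_one hw i)

omit hw in
/-- The cyclic subgroup of index four. -/
def Q : Subgroup G := zpowers (D.r ^ (2 : ℤ))

omit hw in
theorem mem_Q {a : G} : a ∈ D.Q ↔ ∃ i : ℤ, Even i ∧ a = D.r ^ i := by
  rw [Q, mem_zpowers_iff]
  constructor
  · rintro ⟨c, rfl⟩
    exact ⟨2 * c, ⟨c, two_mul c⟩, by rw [zpow_mul]⟩
  · rintro ⟨i, ⟨c, rfl⟩, rfl⟩
    exact ⟨c, by rw [← zpow_mul, two_mul]⟩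

omit hw in
theorem Q_le : D.Q ≤ (D.S : Subgroup G) ⊓ D.K := fun a ha => by
  obtain ⟨i, hi, rfl⟩ := D.mem_Q.1 ha
  exact ⟨zpow_mem D.hrS i, D.even_mem hi⟩

theorem refl_mem (i : ℤ) : D.x * D.r ^ i ∈ (D.S : Subgroup G) :=
  mul_mem D.hxS (zpow_mem D.hrS i)

omit hw in
/-- Elements of `S ⊓ K`. -/
theorem shapeK {t : G} (ht : t ∈ (D.S : Subgroup G) ⊓ D.K) :
    t ∈ D.Q ∨ ∃ i : ℤ, ¬ Even i ∧ t = D.x * D.r ^ i := by
  obtain ⟨i, rfl | rfl⟩ := D.shape ht.1
  · exact Or.inl (D.mem_Q.2 ⟨i, D.pow_mem_iff.1 ht.2, rfl⟩)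
  · exact Or.inr ⟨i, D.x_mul_mem_iff.1 ht.2, rfl⟩

theorem refl_not_Q (i : ℤ) : D.x * D.r ^ i ∉ D.Q := fun h => by
  obtain ⟨j, -, hj⟩ := D.mem_Q.1 h
  exact D.hxr (by
    rw [eq_mul_inv_of_mul_eq hj]
    exact mul_mem (zpow_mem (mem_zpowers _) _) (inv_mem (zpow_mem (mem_zpowers _) _)))

theorem Q_relIndex : D.Q.relIndex ((D.S : Subgroup G) ⊓ D.K) = 2 := by
  rw [Subgroup.relIndex_eq_two_iff]
  refine ⟨D.x * D.r ^ (1 : ℤ), ⟨D.refl_mem hw 1, D.x_mul_mem_iff.2 (by decide)⟩, fun b hb => ?_⟩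
  rcases D.shapeK hb with h | ⟨i, hi, rfl⟩
  · refine Or.inr ⟨h, fun h' => D.refl_not_Q hw 1 ?_⟩
    exact (D.Q.mul_mem_cancel_left h).1 h'
  · refine Or.inl ⟨?_, D.refl_not_Q hw i⟩
    rw [D.mem_Q]
    obtain ⟨c, rfl⟩ := Int.not_even_iff_odd.1 hi
    refine ⟨-(2 * c + 1) + 1, ⟨-c, by ring⟩, ?_⟩
    rw [← mul_assoc, D.conj_r hw, ← zpow_add]

/-- `z` is conjugate to `xr`, as otherwise there is a normal 2-complement. -/
theorem fused (hnc : ¬ Cfsg.HasNormalPComplement 2 G) : IsConj (D.x * D.r) D.z := by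
  haveI := D.hK
  by_contra hne
  obtain ⟨O, h1, h2, h3, -⟩ := odd_normal_of_no_fusion D.S D.K D.hKi D.Q
    (by unfold Q; infer_instance) (D.Q_le.trans inf_le_right) (D.Q_le.trans inf_le_left)
    (D.Q_relIndex hw) (D.x * D.r ^ (1 : ℤ)) (D.order_refl hw 1) (D.x_mul_mem_iff.2 (by decide))
    (fun g hg => by
      obtain ⟨i, -, hi⟩ := D.mem_Q.1 hg
      have hsq : D.r ^ i * D.r ^ i = 1 := by
        rw [← hi, show g * (D.x * D.r ^ (1 : ℤ)) * g⁻¹ * (g * (D.x * D.r ^ (1 : ℤ)) * g⁻¹) =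
          g * (D.x * D.r ^ (1 : ℤ) * (D.x * D.r ^ (1 : ℤ))) * g⁻¹ by group, D.refl_sq hw]
        group
      rcases D.eq_z (zpow_mem (mem_zpowers _) _) hsq with e | e
      · exact D.xr_ne_one hw 1 (conj_eq_one_iff.1 (hi.trans e))
      · exact hne (isConj_iff.2 ⟨g, by rw [← zpow_one D.r]; exact hi.trans e⟩))
    (fun v hv hvQ => by
      obtain ⟨i, hi, rfl⟩ := (D.shapeK hv).resolve_left hvQ
      obtain ⟨c, -, hc⟩ := D.odd_conj hw hi
      exact isConj_iff.2 ⟨c, by rw [zpow_one]; exact hc⟩)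
  exact hnc (hasComplement_of O h1 h2 h3)

omit hw in
theorem commute_z {a : G} (ha : a ∈ (D.S : Subgroup G)) : a * D.z = D.z * a := by
  have hrz : ∀ i : ℤ, D.r ^ i * D.z = D.z * D.r ^ i := fun i =>
    ((Commute.refl D.r).zpow_left i).pow_right _
  have hxz : D.x * D.z = D.z * D.x := by
    conv_rhs => rw [← D.comm_z]
    rw [mul_assoc _ D.x D.x, D.x_sq, mul_one]
  obtain ⟨i, rfl | rfl⟩ := D.shape ha
  · exact hrz i
  · rw [mul_assoc, hrz, ← mul_assoc, hxz, mul_assoc]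

omit hw in
theorem le_centralizer : (D.S : Subgroup G) ≤ centralizer ({D.z} : Set G) := fun _ ha =>
  mem_centralizer_singleton_iff.2 (D.commute_z ha)

/-- The centraliser of `z` has a normal 2-complement. -/
theorem exists_core : ∃ O : Subgroup G, O ≤ centralizer ({D.z} : Set G) ∧ O ≤ D.K ∧
    (∀ y ∈ centralizer ({D.z} : Set G), ∀ o ∈ O, y * o * y⁻¹ ∈ O) ∧ Odd (Nat.card O) ∧
    Nat.card (centralizer ({D.z} : Set G)) = Nat.card O * Nat.card (D.S : Subgroup G) := by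
  classical
  haveI := D.hK
  haveI : Fact (Nat.Prime 2) := ⟨Nat.prime_two⟩
  set C := centralizer ({D.z} : Set G) with hC
  have hSC := D.le_centralizer
  haveI : (D.K.subgroupOf C).Normal := inferInstance
  have hKC : (D.K.subgroupOf C).index = 2 := by
    have h1 : D.K.relIndex C ∣ D.K.index := Subgroup.relIndex_dvd_index_of_normal D.K C
    rw [D.hKi] at h1
    rcases (Nat.dvd_prime Nat.prime_two).1 h1 with e | e
    · exact absurd (Subgroup.relIndex_eq_one.1 e (hSC D.hxS)) D.hxK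
    · exact e
  have hQC : D.Q ≤ C := fun a ha => hSC (D.Q_le ha).1
  obtain ⟨O, hOn, hOodd, ⟨k, hk⟩, hOK⟩ := odd_normal_of_no_fusion (G := C) (D.S.subtype hSC)
    (D.K.subgroupOf C) hKC (D.Q.subgroupOf C)
    (by
      haveI : IsCyclic D.Q := by unfold Q; infer_instance
      exact isCyclic_of_surjective _ (Subgroup.subgroupOfEquivOfLe hQC).symm.surjective)
    (fun a ha => (D.Q_le ha).2) (fun a ha => (D.Q_le ha).1)
    (by
      refine Eq.trans ?_ (D.Q_relIndex hw)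
      rw [Sylow.coe_subtype, show (D.S : Subgroup G).subgroupOf C ⊓ D.K.subgroupOf C =
        ((D.S : Subgroup G) ⊓ D.K).subgroupOf C from (Subgroup.comap_inf _ _ _).symm,
        Subgroup.relIndex_subgroupOf (inf_le_left.trans hSC)])
    (⟨D.x * D.r ^ (1 : ℤ), hSC (D.refl_mem hw 1)⟩ : C)
    (by rw [← orderOf_coe]; exact D.order_refl hw 1) (D.x_mul_mem_iff.2 (by decide) : _)
    (fun g hg => by
      obtain ⟨i, -, hi⟩ := D.mem_Q.1 hg
      have hi' : (g : G) * (D.x * D.r ^ (1 : ℤ)) * (g : G)⁻¹ = D.r ^ i := hi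
      have hsq : D.r ^ i * D.r ^ i = 1 := by
        rw [← hi', show (g : G) * (D.x * D.r ^ (1 : ℤ)) * (g : G)⁻¹ *
          ((g : G) * (D.x * D.r ^ (1 : ℤ)) * (g : G)⁻¹) =
          (g : G) * (D.x * D.r ^ (1 : ℤ) * (D.x * D.r ^ (1 : ℤ))) * (g : G)⁻¹ by group, D.refl_sq hw]
        group
      rcases D.eq_z (zpow_mem (mem_zpowers _) _) hsq with e | e
      · exact D.xr_ne_one hw 1 (conj_eq_one_iff.1 (hi'.trans e))
      · have hg' : (g : G) * D.z = D.z * g := mem_centralizer_singleton_iff.1 g.2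
        refine D.xr_ne_z hw 1 ?_
        calc D.x * D.r ^ (1 : ℤ)
            = (g : G)⁻¹ * ((g : G) * (D.x * D.r ^ (1 : ℤ)) * (g : G)⁻¹) * g := by group
          _ = (g : G)⁻¹ * (D.z * g) := by rw [hi'.trans e, mul_assoc]
          _ = D.z := by rw [← hg', inv_mul_cancel_left])
    (fun v hv hvQ => by
      obtain ⟨i, hi, he⟩ := (D.shapeK (t := (v : G)) ⟨hv.1, hv.2⟩).resolve_left hvQ
      obtain ⟨c, hc, hce⟩ := D.odd_conj hw hi
      have hcC : c ∈ C := hSC ((zpowers_le.2 D.hrS) hc)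
      exact isConj_iff.2 ⟨⟨c, hcC⟩, Subtype.ext (by
        show c * (D.x * D.r ^ (1 : ℤ)) * c⁻¹ = (v : G)
        rw [zpow_one, hce, he])⟩)
  refine ⟨O.map C.subtype, Subgroup.map_subtype_le _, ?_, ?_, ?_, ?_⟩
  · rintro _ ⟨o, ho, rfl⟩
    exact hOK ho
  · rintro y hy _ ⟨o, ho, rfl⟩
    exact ⟨_, hOn.conj_mem o ho ⟨y, hy⟩, rfl⟩
  · rwa [Nat.card_congr (O.equivMapOfInjective _ C.subtype_injective).toEquiv.symm]
  · rw [Nat.card_congr (O.equivMapOfInjective _ C.subtype_injective).toEquiv.symm]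
    have h1 : Nat.card C = Nat.card O * 2 ^ k := by rw [← O.card_mul_index, hk]
    have h2 := (D.S.subtype hSC).card_eq_multiplicity
    rw [h1, Nat.factorization_mul hOodd.pos.ne' (by positivity), Finsupp.add_apply,
      Nat.factorization_eq_zero_of_not_dvd hOodd.not_two_dvd_nat,
      Nat.Prime.factorization_pow Nat.prime_two, Finsupp.single_eq_same, zero_add, Sylow.coe_subtype,
      Nat.card_congr (Subgroup.subgroupOfEquivOfLe hSC).toEquiv] at h2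
    rw [h1, h2]

end dihedral

end BigData

end Cfsg.FoursCent
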